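import Cfsg.Agent.Lib.BigPerm.Fi24.Simple
import Cfsg.Prelude.Def_FischerSpaces

/-!
# The class of 306936 transpositions of the presented Fi24

The subgroup on the generators other than `k` is maximal and is the centraliser of `l`; the conjugates of
`l` form a primitive class of 3-transpositions.
-/

set_option autoImplicit false
set_option maxRecDepth 100000
set_option maxHeartbeats 1000000

open scoped Pointwise

namespace Cfsg.Lib.BigPerm.Fi24

open Cfsg.Lib.CosetEnum Cfsg.Lib.BigPerm.Fi24Cert Cfsg.Spor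

theorem x_mem_Hsub {g : ℕ} (hg : g < 12) (h : g ≠ 1) : x g ∈ Hsub := by
  have := mem_subW_of_over ((show ∀ g < 12, g ≠ 1 → overOK bigWords [g] = true by
    decide +kernel) g hg h)
  rwa [wordVal_one (by simp only [eps]; omega)] at this

theorem mem_Hsub_iff {a : Spor.Fi24} : a ∈ Hsub ↔ a • q0 = q0 := by
  refine ⟨fix_q0, fun h => ?_⟩
  have h' : ((a : Spor.Fi24) : Cosets) = q0 := (smul_q0 _).symm.trans h
  have := QuotientGroup.eq.1 h'
  rwa [mul_one, inv_mem_iff] at this

theorem x1_not_mem : x 1 ∉ Hsub := fun h => by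
  have h1 := h_fix h
  rw [f_x1_pk] at h1
  exact absurd (congrArg Fin.val h1) (by decide)

theorem three_orbits (q : Cosets) :
    q = q0 ∨ q ∈ MulAction.orbit Hsub q1 ∨ q ∈ MulAction.orbit Hsub qw := by
  have : q ∈ X := by rw [X_univ]; trivial
  simpa [X] using this

theorem finite_cosets : Finite Cosets := Finite.of_equiv _ (Equiv.ofBijective π π_bijective).symm

/-- The large subgroup is maximal. -/
theorem Hsub_maximal {C : Subgroup Spor.Fi24} (h : Hsub ≤ C) : C = Hsub ∨ C = ⊤ := by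
  have := finite_cosets
  set Δ := MulAction.orbit C q0
  have hdvd : Δ.ncard ∣ 306936 := by
    have hs : MulAction.stabilizer C q0 = Hsub.subgroupOf C := by
      ext c
      rw [MulAction.mem_stabilizer_iff, Subgroup.mem_subgroupOf, mem_Hsub_iff]
      rfl
    rw [← index_Hsub, ← Subgroup.relIndex_mul_index h, ← MulAction.index_stabilizer, hs]
    exact Dvd.intro _ rfl
  have h0 : q0 ∈ Δ := MulAction.mem_orbit_self _
  have hcl : ∀ q : Cosets, q ∈ Δ → MulAction.orbit Hsub q ⊆ Δ := by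
    rintro _ ⟨c, rfl⟩ _ ⟨b, rfl⟩
    exact ⟨⟨b.1, h b.2⟩ * c, mul_smul (⟨b.1, h b.2⟩ : C) c q0⟩
  have hback : ∀ r : Cosets, ∀ q ∈ MulAction.orbit Hsub r, q ∈ Δ → MulAction.orbit Hsub r ⊆ Δ := by
    intro r q hq hqΔ
    rw [← MulAction.orbit_eq_iff.2 hq]
    exact hcl q hqΔ
  obtain ⟨s1, s2⟩ := orbit_sizes
  have hone : ∀ r : Cosets, (∀ q : Cosets, q ∈ Δ → q = q0 ∨ q ∈ MulAction.orbit Hsub r) →
      MulAction.orbit Hsub r ⊆ Δ →
      (MulAction.orbit Hsub r).ncard ≤ Δ.ncard ∧ Δ.ncard ≤ (MulAction.orbit Hsub r).ncard + 1 :=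
    fun r h1 h2 => ⟨Set.ncard_le_ncard h2 (Set.toFinite _),
      (Set.ncard_le_ncard (fun q hq => (h1 q hq : q ∈ insert q0 (MulAction.orbit Hsub r)))
        (Set.toFinite _)).trans (Set.ncard_insert_le _ _)⟩
  by_cases ha : ∃ q ∈ MulAction.orbit Hsub q1, q ∈ Δ <;>
    by_cases hb : ∃ q ∈ MulAction.orbit Hsub qw, q ∈ Δ
  · right
    obtain ⟨q, hq, hqΔ⟩ := ha
    obtain ⟨r, hr, hrΔ⟩ := hb
    refine eq_top_iff.2 fun a _ => ?_
    obtain ⟨c, hc⟩ : a • q0 ∈ Δ := by
      rcases three_orbits (a • q0) with e | e | e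
      · rw [e]; exact h0
      · exact hback _ q hq hqΔ e
      · exact hback _ r hr hrΔ e
    replace hc : (c : Spor.Fi24) • q0 = a • q0 := hc
    have : (c : Spor.Fi24)⁻¹ * a ∈ Hsub := mem_Hsub_iff.2 (by rw [mul_smul, ← hc, inv_smul_smul])
    simpa using mul_mem c.2 (h this)
  · exfalso
    obtain ⟨q, hq, hqΔ⟩ := ha
    push Not at hb
    obtain ⟨l1, l2⟩ := hone q1 (fun z hz => by
      rcases three_orbits z with e | e | e
      exacts [Or.inl e, Or.inr e, absurd hz (hb z e)]) (hback _ q hq hqΔ)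
    rw [s1] at l1 l2
    interval_cases hn : Δ.ncard <;> exact absurd hdvd (by decide +kernel)
  · exfalso
    obtain ⟨q, hq, hqΔ⟩ := hb
    push Not at ha
    obtain ⟨l1, l2⟩ := hone qw (fun z hz => by
      rcases three_orbits z with e | e | e
      exacts [Or.inl e, absurd hz (ha z e), Or.inr e]) (hback _ q hq hqΔ)
    rw [s2] at l1 l2
    interval_cases hn : Δ.ncard <;> exact absurd hdvd (by decide +kernel)
  · left
    push Not at ha hb
    refine le_antisymm (fun c hc => mem_Hsub_iff.2 ?_) h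
    have hm : c • q0 ∈ Δ := ⟨⟨c, hc⟩, rfl⟩
    rcases three_orbits (c • q0) with e | e | e
    exacts [e, absurd hm (ha _ e), absurd hm (hb _ e)]

theorem braid {a b : ℕ} (ha : a < 12) (hb : b < 12) (h : [b, a, b, a, b, a] ∈ numbering.pairs) :
    x a * x b * x a = x b * x a * x b := by
  have h1 := x_rel _ (List.mem_append_left _ h)
  simp only [wordVal, gen, show a ≠ eps by simp only [eps]; omega,
    show b ≠ eps by simp only [eps]; omega, if_false, one_mul] at h1
  have hi : ∀ g, (x g)⁻¹ = x g := fun g => inv_eq_of_mul_eq_one_left (x_mul_self g)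
  have h2 : (x a * x b * x a) * (x b * x a * x b) = 1 := by simpa [mul_assoc] using h1
  rw [eq_inv_of_mul_eq_one_left h2, mul_inv_rev, mul_inv_rev, hi, hi, mul_assoc]

/-- The centraliser of `l`. -/
theorem centralizer_x0 : Subgroup.centralizer ({x 0} : Set Spor.Fi24) = Hsub := by
  have hle : Hsub ≤ Subgroup.centralizer ({x 0} : Set Spor.Fi24) := fun a ha =>
    Subgroup.mem_centralizer_singleton_iff.2 (l_central ha).symm.eq
  refine (Hsub_maximal hle).resolve_right fun h => x1_not_mem ?_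
  have hc : x 1 * x 0 = x 0 * x 1 :=
    Subgroup.mem_centralizer_singleton_iff.1 (h.symm ▸ Subgroup.mem_top (x 1))
  have hb := braid (a := 0) (b := 1) (by decide) (by decide) (by decide +kernel)
  rw [← hc, mul_assoc (x 1), x_mul_self, mul_one, mul_assoc, ← hc, ← mul_assoc, x_mul_self,
    one_mul] at hb
  rw [hb]
  exact l_mem

theorem isConj_step {a b : ℕ} (ha : a < 12) (hb : b < 12)
    (h : [b, a, b, a, b, a] ∈ numbering.pairs) : IsConj (x a) (x b) := by
  refine isConj_iff.2 ⟨x a * x b, ?_⟩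
  rw [braid ha hb h, mul_inv_rev, inv_eq_of_mul_eq_one_left (x_mul_self a),
    inv_eq_of_mul_eq_one_left (x_mul_self b), mul_assoc (x b * x a), ← mul_assoc (x b) (x b),
    x_mul_self, one_mul, mul_assoc, x_mul_self, mul_one]

/-- All generators are conjugate to `l`. -/
theorem isConj_gen : ∀ g < 12, IsConj (x 0) (x g) := by
  have s : ∀ e ∈ [(0, 1), (1, 2), (2, 3), (3, 4), (4, 5), (5, 6), (5, 10), (6, 7), (7, 8), (8, 9),
      (10, 11)], IsConj (x e.1) (x e.2) := fun e he => by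
    have h := (show ∀ e ∈ [((0 : ℕ), (1 : ℕ)), (1, 2), (2, 3), (3, 4), (4, 5), (5, 6), (5, 10),
      (6, 7), (7, 8), (8, 9), (10, 11)], e.1 < 12 ∧ e.2 < 12 ∧
        [e.2, e.1, e.2, e.1, e.2, e.1] ∈ numbering.pairs by decide +kernel) e he
    exact isConj_step h.1 h.2.1 h.2.2
  have c1 := s (0, 1) (by simp)
  have c2 := c1.trans (s (1, 2) (by simp))
  have c3 := c2.trans (s (2, 3) (by simp))
  have c4 := c3.trans (s (3, 4) (by simp))
  have c5 := c4.trans (s (4, 5) (by simp))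
  have c6 := c5.trans (s (5, 6) (by simp))
  have c7 := c6.trans (s (6, 7) (by simp))
  have c8 := c7.trans (s (7, 8) (by simp))
  have c9 := c8.trans (s (8, 9) (by simp))
  have c10 := c5.trans (s (5, 10) (by simp))
  have c11 := c10.trans (s (10, 11) (by simp))
  intro g hg
  interval_cases g
  exacts [IsConj.refl _, c1, c2, c3, c4, c5, c6, c7, c8, c9, c10, c11]

/-- The class of transpositions. -/
def D : Set Spor.Fi24 := conjugatesOf (x 0)

theorem closure_D : Subgroup.closure D = ⊤ := by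
  refine top_le_iff.1 (closure_x ▸ Subgroup.closure_mono ?_)
  rintro _ ⟨g, hg, rfl⟩
  exact isConj_gen g hg

theorem x0_ne_one : x 0 ≠ 1 := fun h => x_not_mem (g := 0) (by decide) (h ▸ one_mem _)

theorem conj_eq {a b : Spor.Fi24} (h : a⁻¹ * b ∈ Hsub) : a * x 0 * a⁻¹ = b * x 0 * b⁻¹ := by
  have h1 := (l_central h).eq
  calc a * x 0 * a⁻¹ = a * (x 0 * (a⁻¹ * b)) * b⁻¹ := by group
    _ = a * (a⁻¹ * b * x 0) * b⁻¹ := by rw [h1]
    _ = b * x 0 * b⁻¹ := by group

theorem pair_order (a : Spor.Fi24) :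
    (x 0 * (a * x 0 * a⁻¹)) ^ 2 = 1 ∨ (x 0 * (a * x 0 * a⁻¹)) ^ 3 = 1 := by
  have key : ∀ (m : ℕ) (r : Spor.Fi24) (b : Hsub), a • q0 = (b : Spor.Fi24) • r • q0 →
      (x 0 * (r * x 0 * r⁻¹)) ^ m = 1 → (x 0 * (a * x 0 * a⁻¹)) ^ m = 1 := by
    intro m r b hb hm
    have hmem : a⁻¹ * ((b : Spor.Fi24) * r) ∈ Hsub := by
      rw [mem_Hsub_iff, mul_smul, mul_smul, ← hb, inv_smul_smul]
    rw [conj_eq hmem]
    have : x 0 * ((b : Spor.Fi24) * r * x 0 * ((b : Spor.Fi24) * r)⁻¹) =
        (b : Spor.Fi24) * (x 0 * (r * x 0 * r⁻¹)) * (b : Spor.Fi24)⁻¹ := by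
      rw [← mul_assoc (b : Spor.Fi24) (x 0), ← (l_central b.2).eq]
      group
    rw [this, conj_pow, hm, mul_one, mul_inv_cancel]
  have hi : ∀ g, (x g)⁻¹ = x g := fun g => inv_eq_of_mul_eq_one_left (x_mul_self g)
  have hsq : ∀ (g : ℕ) (z : Spor.Fi24), x g * (x g * z) = z := fun g z => by
    rw [← mul_assoc, x_mul_self, one_mul]
  rcases three_orbits (a • q0) with h | h | h
  · left
    rw [← conj_eq (a := 1) (b := a) (by rw [inv_one, one_mul]; exact mem_Hsub_iff.2 h), one_mul,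
      inv_one, mul_one, x_mul_self, one_pow]
  · right
    obtain ⟨b, hb⟩ := h
    refine key 3 (x 1) b hb.symm ?_
    rw [hi, ← braid (a := 0) (b := 1) (by decide) (by decide) (by decide +kernel),
      mul_assoc (x 0) (x 1), hsq]
    have h1 := x_rel _ (List.mem_append_left _
      (show [0, 1, 0, 1, 0, 1] ∈ numbering.pairs by decide +kernel))
    simpa [wordVal, gen, eps, pow_succ, mul_assoc] using h1
  · left
    obtain ⟨b, hb⟩ := h
    refine key 2 (wordVal x [1, 2, 0, 1]) b hb.symm ?_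
    have b01 := braid (a := 0) (b := 1) (by decide) (by decide) (by decide +kernel)
    have b12 := braid (a := 1) (b := 2) (by decide) (by decide) (by decide +kernel)
    have c02 := (commute_gens (a := 0) (b := 2) (by decide) (by decide) (by decide +kernel)).eq
    have hw : wordVal x [1, 2, 0, 1] * x 0 * (wordVal x [1, 2, 0, 1])⁻¹ = x 2 := by
      simp only [wordVal, gen, eps, one_mul, show (1 : ℕ) ≠ 31 by decide,
        show (2 : ℕ) ≠ 31 by decide, show (0 : ℕ) ≠ 31 by decide, if_false, mul_inv_rev, hi]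
      calc x 1 * x 0 * x 2 * x 1 * x 0 * (x 1 * (x 2 * (x 0 * x 1)))
          = x 1 * x 0 * x 2 * (x 1 * x 0 * x 1) * (x 2 * (x 0 * x 1)) := by
            simp only [mul_assoc]
        _ = x 1 * x 0 * (x 2 * x 0) * x 1 * (x 0 * x 2) * (x 0 * x 1) := by
            rw [← b01]; simp only [mul_assoc]
        _ = x 1 * x 2 * x 1 * x 2 * x 1 := by
            rw [← c02]
            conv_lhs => rw [c02]
            simp only [mul_assoc, hsq]
            rw [← mul_assoc (x 0) (x 2), c02, mul_assoc, hsq]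
        _ = x 2 := by
            rw [b12]
            simp only [mul_assoc, hsq, x_mul_self, mul_one]
    rw [hw, pow_two]
    nth_rewrite 1 [c02]
    rw [mul_assoc, hsq, x_mul_self]

theorem D_order : ∀ e ∈ D, orderOf e = 2 := by
  intro e he
  obtain ⟨g, rfl⟩ := isConj_iff.1 he
  refine orderOf_eq_prime ?_ ?_
  · rw [conj_pow, pow_two, x_mul_self, mul_one, mul_inv_cancel]
  · exact fun h1 => x0_ne_one (conj_eq_one_iff.1 h1)

/-- The class consists of 3-transpositions. -/
theorem isClass : Cfsg.IsThreeTranspositionClass D := by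
  refine ⟨⟨D_order, fun e he e' he' => ?_⟩, ⟨x 0, mem_conjugatesOf_self, rfl⟩, closure_D⟩
  obtain ⟨g, rfl⟩ := isConj_iff.1 he
  obtain ⟨g', rfl⟩ := isConj_iff.1 he'
  have : g * x 0 * g⁻¹ * (g' * x 0 * g'⁻¹) =
      g * (x 0 * (g⁻¹ * g' * x 0 * (g⁻¹ * g')⁻¹)) * g⁻¹ := by group
  rw [this, conj_pow, conj_pow]
  rcases pair_order (g⁻¹ * g') with h | h
  · left; rw [h, mul_one, mul_inv_cancel]
  · right; rw [h, mul_one, mul_inv_cancel]

theorem card_D : Nat.card D = 306936 := by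
  have hb : Function.Bijective (fun q : Cosets => Quotient.liftOn' q
      (fun a => (⟨a * x 0 * a⁻¹, isConj_iff.2 ⟨a, rfl⟩⟩ : D))
      (fun a b hab => Subtype.ext (conj_eq (QuotientGroup.leftRel_apply.1 hab)))) := by
    refine ⟨fun p q => ?_, ?_⟩
    · induction p using QuotientGroup.induction_on with | _ a => ?_
      induction q using QuotientGroup.induction_on with | _ b => ?_
      intro he
      have he' : a * x 0 * a⁻¹ = b * x 0 * b⁻¹ := congrArg Subtype.val he
      rw [QuotientGroup.eq, ← centralizer_x0, Subgroup.mem_centralizer_singleton_iff]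
      calc a⁻¹ * b * x 0 = a⁻¹ * (b * x 0 * b⁻¹) * b := by group
        _ = a⁻¹ * (a * x 0 * a⁻¹) * b := by rw [he']
        _ = x 0 * (a⁻¹ * b) := by group
    · rintro ⟨e, he⟩
      obtain ⟨g, rfl⟩ := isConj_iff.1 he
      exact ⟨(g : Cosets), rfl⟩
  rw [← Nat.card_eq_of_bijective _ hb, ← Subgroup.index_eq_card, index_Hsub]

/-- The centre is trivial. -/
theorem center_eq_bot : Subgroup.center Spor.Fi24 = ⊥ := by
  rw [Subgroup.eq_bot_iff_forall]
  intro z hz
  have hc := Subgroup.mem_center_iff.1 hz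
  have hH : z ∈ Hsub := by
    rw [← centralizer_x0, Subgroup.mem_centralizer_singleton_iff]
    exact (hc (x 0)).symm
  refine f_injective ?_
  rw [map_one]
  refine Equiv.ext fun i => ?_
  obtain ⟨q, rfl⟩ := π_bijective.2 i
  obtain ⟨a, rfl⟩ := QuotientGroup.mk_surjective q
  rw [← π_smul, ← smul_q0, smul_smul, ← hc a, mul_smul, fix_q0 hH]
  rfl

/-- The action on the class is primitive. -/
theorem isPrimitive : Cfsg.IsPrimitiveUnderConj D := by
  have htr : ∀ a ∈ D, ∀ b ∈ D, ∃ g : Spor.Fi24, g * a * g⁻¹ = b := by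
    intro a ha b hb
    exact isConj_iff.1 ((ha : IsConj (x 0) a).symm.trans hb)
  refine ⟨htr, ⟨x 0, mem_conjugatesOf_self, x 1, isConj_gen 1 (by decide),
    fun h => x1_not_mem (h ▸ l_mem)⟩, fun B hB hblock => ?_⟩
  rcases B.eq_empty_or_nonempty with rfl | ⟨b, hb⟩
  · exact Or.inl Set.subsingleton_empty
  obtain ⟨c, hc⟩ := isConj_iff.1 (hB hb)
  let S : Subgroup Spor.Fi24 :=
    { carrier := {g | ∀ y, y ∈ B ↔ g * y * g⁻¹ ∈ B}
      one_mem' := fun y => by simp
      mul_mem' := fun {g g'} hg hg' y => by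
        rw [hg' y, hg (g' * y * g'⁻¹)]
        simp [mul_assoc]
      inv_mem' := fun {g} hg y => by
        rw [hg (g⁻¹ * y * g⁻¹⁻¹)]
        simp [mul_assoc] }
  have hS : ∀ g y, y ∈ B → g * y * g⁻¹ ∈ B → g ∈ S := by
    intro g y hy hgy z
    rcases hblock g with h | h
    · refine ⟨fun hz => h ▸ ⟨z, hz, rfl⟩, fun hz => ?_⟩
      obtain ⟨w, hw, he⟩ : g * z * g⁻¹ ∈ (fun x => g * x * g⁻¹) '' B := h.symm ▸ hz
      rwa [← mul_left_cancel (mul_right_cancel he)]
    · exact absurd hgy (Set.disjoint_left.1 h ⟨y, hy, rfl⟩)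
  have hle : Hsub ≤ S.comap (MulAut.conj c).toMonoidHom := fun a ha => hS _ b hb (by
    have h1 : c * a * c⁻¹ * b * (c * a * c⁻¹)⁻¹ = b := by
      rw [← hc, show c * a * c⁻¹ * (c * x 0 * c⁻¹) * (c * a * c⁻¹)⁻¹ = c * (a * x 0) * a⁻¹ * c⁻¹ by
        group, ← (l_central ha).eq]
      group
    show MulAut.conj c a * b * (MulAut.conj c a)⁻¹ ∈ B
    rw [MulAut.conj_apply, h1]
    exact hb)
  rcases Hsub_maximal hle with h | h
  · refine Or.inl fun y hy z hz => ?_
    have hfix : ∀ w ∈ B, w = b := by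
      intro w hw
      obtain ⟨g, rfl⟩ := htr b (hB hb) w (hB hw)
      have hg : c⁻¹ * g * c ∈ Hsub := by
        rw [← h, Subgroup.mem_comap]
        show MulAut.conj c (c⁻¹ * g * c) ∈ S
        rw [MulAut.conj_apply, show c * (c⁻¹ * g * c) * c⁻¹ = g by group]
        exact hS g b hb hw
      rw [← hc]
      calc g * (c * x 0 * c⁻¹) * g⁻¹ = c * ((c⁻¹ * g * c) * x 0) * (c⁻¹ * g * c)⁻¹ * c⁻¹ := by group
        _ = c * (x 0 * (c⁻¹ * g * c)) * (c⁻¹ * g * c)⁻¹ * c⁻¹ := by rw [(l_central hg).eq]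
        _ = c * x 0 * c⁻¹ := by group
    rw [hfix y hy, hfix z hz]
  · refine Or.inr (hB.antisymm fun w hw => ?_)
    obtain ⟨g, rfl⟩ := htr b (hB hb) w hw
    have h' : c⁻¹ * g * c ∈ S.comap (MulAut.conj c).toMonoidHom := by rw [h]; trivial
    have : MulAut.conj c (c⁻¹ * g * c) ∈ S := h'
    rw [MulAut.conj_apply, show c * (c⁻¹ * g * c) * c⁻¹ = g by group] at this
    exact (this b).1 hb

theorem card_Zl : Nat.card Zl = 2 := by
  show Nat.card (Subgroup.zpowers lH) = 2
  rw [Nat.card_zpowers]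
  refine orderOf_eq_prime (Subtype.ext ?_) fun h => x0_ne_one (congrArg Subtype.val h)
  show (x 0) ^ 2 = 1
  rw [pow_two, x_mul_self]

/-- The map of the large subgroup onto the presented Fi23. -/
theorem exists_onto_Fi23 : ∃ φ : Hsub →* Cfsg.Spor.Fi23, Function.Surjective φ ∧ φ.ker = Zl ∧
    ∀ g < 10, ∀ h : x (g + 2) ∈ Hsub,
      φ ⟨x (g + 2), h⟩ = Fi23Pres.numbering.gens Spor.Fi23.extra g := by
  have hn : Zl.Normal := h_quot.1
  obtain ⟨ψ, hψ, hgen⟩ := @h_quot.2 hn
  have := h_card.1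
  have h23 := Cfsg.Agent.S1697.result.2
  have : Finite Cfsg.Spor.Fi23 := Nat.finite_of_card_ne_zero (by rw [h23]; decide)
  have hq : Nat.card (Hsub ⧸ Zl) = Nat.card Cfsg.Spor.Fi23 := by
    have := Subgroup.card_mul_index Zl
    rw [card_Zl, h_exact, Subgroup.index_eq_card] at this
    rw [h23]
    omega
  have bψ := (Nat.bijective_iff_surjective_and_card ψ).2 ⟨hψ, hq.symm⟩
  let e := MulEquiv.ofBijective ψ bψ
  refine ⟨e.symm.toMonoidHom.comp (QuotientGroup.mk' Zl),
    e.symm.surjective.comp (QuotientGroup.mk'_surjective Zl), ?_, fun g hg h => ?_⟩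
  · ext a
    simp [MonoidHom.mem_ker]
  · show e.symm ((⟨x (g + 2), h⟩ : Hsub) : Hsub ⧸ Zl) = _
    rw [← hgen g hg h, Numbering.gens, if_pos (show g < Fi23Pres.numbering.k from hg)]
    exact e.symm_apply_apply _

end Cfsg.Lib.BigPerm.Fi24
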