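import Cfsg.Agent.Lib.BigPerm.Fi24.Sub

/-!
# The index and the order of the presented Fi24

The cosets of the subgroup on the generators other than `k` are in bijection with the 306936 points.
-/

set_option autoImplicit false
set_option maxRecDepth 100000
set_option maxHeartbeats 4000000

open scoped Pointwise

namespace Cfsg.Lib.BigPerm.Fi24

open Cfsg.Lib.CosetEnum Cfsg.Lib.BigPerm.Fi24Cert Cfsg.Spor

local notation "nets" => Fi24Net.nets
local notation "P" => bperm Fi24Net.nets 306936

attribute [local irreducible] point runW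

/-- The base point. -/
def p0 : Fin 306936 := ⟨0, by decide⟩

/-- The point of the second suborbit. -/
def pw : Fin 306936 := ⟨275265, by decide⟩

theorem h_fix {a : Spor.Fi24} (ha : a ∈ Hsub) : f a p0 = p0 := by
  have : f a ∈ wordsGroup nets 306936 bigWords := big_map ▸ Subgroup.mem_map_of_mem f ha
  exact fixes_of_keep lens_ok range_ok (by decide) (by decide +kernel) (p := p0)
    (show keepOK nets bigWords (point 0) = true by decide +kernel) _ this

theorem h22_le : subW h220Words ≤ Hsub := subW_le (by decide +kernel)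

theorem h22_le_p22 : subW h220Words ≤ P22 := subW_le (by decide +kernel)

theorem x1_mem : x 1 ∈ P22 := by
  have := mem_subW_of_over (show overOK p220Words [1] = true by decide +kernel)
  rwa [wordVal_one (by decide)] at this

theorem f_x1_pk : f (x 1) p0 = pk := by
  rw [f_gen (by decide)]
  have := wordVal_point (n := 306936) (p := p0) (q := pk) lens_ok range_ok (k := 15) (by decide)
    (w := [1]) (by decide) pk_ok
  simpa [wordVal, gen, eps] using this

/-- The stabiliser of the base point in `P22` lies in the large subgroup. -/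
theorem stab22 {a : Spor.Fi24} (ha : a ∈ P22) (h0 : f a p0 = p0) : a ∈ subW h220Words := by
  have := p22_card.1
  set G := P22.map f with hG
  have hGe : G = wordsGroup nets 306936 p220Words := map_subW (by decide +kernel)
  set K : Subgroup (Equiv.Perm (Fin 306936)) := G ⊓ MulAction.stabilizer _ p0 with hK
  have hle : wordsGroup nets 306936 h220Words ≤ K := fun g hg => by
    refine ⟨hGe ▸ ?_, fixes_of_keep lens_ok range_ok (by decide) (by decide +kernel) (p := p0) p220_fixH g hg⟩
    exact wordsGroup_le _ (inv_letters (by decide +kernel)) _ _ p220_compH hg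
  have h1 : 1080 * Nat.card K ≤ 9904359628800 := by
    refine (card_ge (G := G) (K := K) inf_le_left (p := p0) (fun g hg => hg.2) ?_ le_rfl).trans ?_
    · rw [hGe]; exact p22_orbit
    · exact (Nat.card_le_card_of_surjective (fun b : P22 => (⟨f b, ⟨b, b.2, rfl⟩⟩ : G))
        (by rintro ⟨_, b, hb, rfl⟩; exact ⟨⟨b, hb⟩, rfl⟩)).trans p22_card.2
  have h2 : Nat.card K ≤ Nat.card (wordsGroup nets 306936 h220Words) := by
    have := h22_order
    omega
  have heq := Subgroup.eq_of_le_of_card_ge hle h2
  have hmem : f a ∈ K := ⟨Subgroup.mem_map_of_mem f ha, h0⟩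
  rw [← heq, ← map_subW (by decide +kernel)] at hmem
  obtain ⟨b, hb, hbf⟩ := hmem
  have : b⁻¹ * a = 1 := inj22 _ (mul_mem (inv_mem (h22_le_p22 hb)) ha) (by
    rw [map_mul, map_inv, hbf, inv_mul_cancel])
  rw [inv_mul_eq_one] at this
  exact this ▸ hb

/-- The cosets of the large subgroup. -/
abbrev Cosets : Type := Spor.Fi24 ⧸ Hsub

/-- The base coset. -/
def q0 : Cosets := ((1 : Spor.Fi24) : Cosets)

theorem smul_q0 (a : Spor.Fi24) : a • q0 = (a : Cosets) := by
  show ((a * 1 : Spor.Fi24) : Cosets) = _
  rw [mul_one]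

theorem fix_q0 {a : Spor.Fi24} (ha : a ∈ Hsub) : a • q0 = q0 := by
  rw [smul_q0]
  exact QuotientGroup.eq.2 (by rw [mul_one]; exact inv_mem ha)

/-- Elements of `P22` with the same image of the base point give the same coset. -/
theorem coset22 {a b : Spor.Fi24} (ha : a ∈ P22) (hb : b ∈ P22) (h : f a p0 = f b p0) :
    a • q0 = b • q0 := by
  rw [smul_q0, smul_q0]
  refine QuotientGroup.eq.2 (h22_le (stab22 (mul_mem (inv_mem ha) hb) ?_))
  rw [map_mul, map_inv, Equiv.Perm.mul_apply, ← h]
  simp

/-- The coset of `k`. -/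
def q1 : Cosets := x 1 • q0

theorem commute_B {a : Spor.Fi24} (ha : a ∈ Bsub) : Commute (x 1) a := by
  refine Subgroup.mem_centralizer_singleton_iff.1 ((Subgroup.closure_le
    (K := Subgroup.centralizer ({x 1} : Set Spor.Fi24))).2 ?_ ha) |>.symm
  rintro _ ⟨u, hu, rfl⟩
  obtain ⟨g, hg, rfl⟩ := (show ∀ u ∈ b80Words, ∃ g ∈ [3, 4, 5, 6, 7, 8, 9, 10, 11], [g] = u by
    decide +kernel) u hu
  have h' := (show ∀ g ∈ [3, 4, 5, 6, 7, 8, 9, 10, 11], g < 12 ∧ [g, 1, g, 1] ∈ numbering.pairs by
    decide +kernel) g hg
  rw [SetLike.mem_coe, Subgroup.mem_centralizer_singleton_iff, wordVal_one (by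
    simp only [eps]; omega)]
  exact (commute_gens (by decide) h'.1 h'.2).symm.eq

theorem B_le : Bsub ≤ Hsub := subW_le (by decide +kernel)

theorem B_fix_q1 {a : Spor.Fi24} (ha : a ∈ Bsub) : a • q1 = q1 := by
  rw [q1, smul_smul, ← (commute_B ha).eq, ← smul_smul, fix_q0 (B_le ha)]

/-- The data of one step of the walk. -/
abbrev Step : Type := List ℕ × List ℕ × List ℕ × List ℕ

/-- The conditions on the letters of a step. -/
def lettersStep (s : Step) : Bool :=
  overOK bigWords s.1 && overOK h220Words s.2.1 && overOK b80Words s.2.2.1 &&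
    overOK h220Words s.2.2.2

/-- The steps carry `q1`-cosets over `k`. -/
theorem step_ok {h h0 fw h1 : List ℕ} {T q : ℕ} (hl : lettersStep (h, h0, fw, h1) = true)
    (e1 : Nat.beq (runW nets h o6) T = true) (e2 : Nat.beq (runW nets (h0 ++ fw) o6) T = true)
    (e3 : Nat.beq (runW nets h (point 1)) (point q) = true)
    (e4 : Nat.beq (runW nets (h0 ++ fw) (point 1)) (point q) = true)
    (e5 : Nat.beq (runW nets (h0 ++ [1]) (point 1)) (runW nets h1 (point 1)) = true) :
    x 1 • wordVal x h • q1 = wordVal x (h1 ++ fw) • q1 := by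
  simp only [lettersStep, Bool.and_eq_true] at hl
  obtain ⟨⟨⟨l1, l2⟩, l3⟩, l4⟩ := hl
  have lt : ∀ {U : List (List ℕ)} {w : List ℕ}, overOK U w = true → ∀ g ∈ w, g < 15 := by
    intro U w hw g hg
    have := List.all_eq_true.1 hw g hg
    rw [Bool.and_eq_true, Nat.blt_eq] at this
    omega
  have lt12 : ∀ {U : List (List ℕ)} {w : List ℕ}, overOK U w = true → ∀ g ∈ w, g < 12 := by
    intro U w hw g hg
    have := List.all_eq_true.1 hw g hg
    rw [Bool.and_eq_true, Nat.blt_eq] at this
    exact this.1
  have m1 : wordVal x h ∈ Hsub := mem_subW_of_over l1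
  have m0 : wordVal x h0 ∈ subW h220Words := mem_subW_of_over l2
  have mf : wordVal x fw ∈ Bsub := mem_subW_of_over l3
  have m2 : wordVal x h1 ∈ subW h220Words := mem_subW_of_over l4
  have ltc : ∀ g ∈ h0 ++ fw, g < 15 := fun g hg =>
    (List.mem_append.1 hg).elim (lt l2 g) (lt l3 g)
  have ltc12 : ∀ g ∈ h0 ++ fw, g < 12 := fun g hg =>
    (List.mem_append.1 hg).elim (lt12 l2 g) (lt12 l3 g)
  have hs : f (wordVal x h) • sixSet = f (wordVal x (h0 ++ fw)) • sixSet := by
    rw [smul_eq_image, smul_eq_image, f_word (lt12 l1), f_word ltc12, sixSet,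
      pts_eq_of_eq lens_ok range_ok (by decide) (lt l1) e1,
      pts_eq_of_eq lens_ok range_ok (by decide) ltc e2]
  have hp : f (wordVal x h) pk = f (wordVal x (h0 ++ fw)) pk := by
    rw [f_word (lt12 l1), f_word ltc12]
    have a1 := pts_eq_of_eq (n := 306936) lens_ok range_ok (k := 15) (by decide) (lt l1) e3
    have a2 := pts_eq_of_eq (n := 306936) lens_ok range_ok (k := 15) (by decide) ltc e4
    have a3 := a1.trans a2.symm
    rw [show point 1 = point pk.1 from rfl, pts_point, Set.image_singleton, Set.image_singleton,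
      Set.singleton_eq_singleton_iff] at a3
    exact a3
  set c := wordVal x (h0 ++ fw) with hc
  have mc : c ∈ Hsub := by
    rw [hc, wordVal_append]
    exact mul_mem (B_le mf) (h22_le m0)
  have hB : c⁻¹ * wordVal x h ∈ Bsub := by
    refine mem_Bsub (mul_mem (inv_mem mc) m1) ?_ ?_
    · rw [map_mul, map_inv, Equiv.Perm.mul_apply, hp]
      simp
    · rw [map_mul, map_inv, mul_smul, hs, inv_smul_smul]
  have hq : wordVal x h • q1 = c • q1 := by
    conv_lhs => rw [show wordVal x h = c * (c⁻¹ * wordVal x h) by group]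
    rw [mul_smul, B_fix_q1 hB]
  have h22 : x 1 • wordVal x h0 • q1 = wordVal x h1 • q1 := by
    rw [q1, smul_smul, smul_smul, smul_smul]
    refine coset22 (mul_mem (mul_mem x1_mem (h22_le_p22 m0)) x1_mem)
      (mul_mem (h22_le_p22 m2) x1_mem) ?_
    have lt1 : ∀ g ∈ h0 ++ [1], g < 15 := fun g hg => by
      rcases List.mem_append.1 hg with hg | hg
      · exact lt l2 g hg
      · rw [List.mem_singleton] at hg; omega
    have lt1' : ∀ g ∈ h0 ++ [1], g < 12 := fun g hg => by
      rcases List.mem_append.1 hg with hg | hg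
      · exact lt12 l2 g hg
      · rw [List.mem_singleton] at hg; omega
    simp only [map_mul, Equiv.Perm.mul_apply, f_x1_pk]
    have : f (wordVal x (h0 ++ [1])) pk = f (wordVal x h1) pk := by
      rw [f_word lt1', f_word (lt12 l4)]
      have a1 := pts_runW (n := 306936) lens_ok range_ok (k := 15) (by decide) lt1 (point 1)
      have a2 := pts_runW (n := 306936) lens_ok range_ok (k := 15) (by decide) (lt l4) (point 1)
      rw [Nat.eq_of_beq_eq_true e5, a2] at a1
      rw [show point 1 = point pk.1 from rfl, pts_point, Set.image_singleton, Set.image_singleton,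
        Set.singleton_eq_singleton_iff] at a1
      exact a1.symm
    rw [wordVal_append, wordVal_one (by decide), map_mul, Equiv.Perm.mul_apply] at this
    exact this
  rw [hq, hc, wordVal_append, mul_smul, smul_smul, (commute_B mf).eq, mul_smul, h22,
    wordVal_append, mul_smul]

/-- The steps. -/
def steps : List Step :=
  [(stepH0, stepH0_0, stepF0, stepH1_0),
    (stepH1, stepH0_1, stepF1, stepH1_1),
    (stepH2, stepH0_2, stepF2, stepH1_2),
    (stepH3, stepH0_3, stepF3, stepH1_3),
    (stepH4, stepH0_4, stepF4, stepH1_4),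
    (stepH5, stepH0_5, stepF5, stepH1_5),
    (stepH6, stepH0_6, stepF6, stepH1_6),
    (stepH7, stepH0_7, stepF7, stepH1_7),
    (stepH8, stepH0_8, stepF8, stepH1_8),
    (stepH9, stepH0_9, stepF9, stepH1_9),
    (stepH10, stepH0_10, stepF10, stepH1_10),
    (stepH11, stepH0_11, stepF11, stepH1_11),
    (stepH12, stepH0_12, stepF12, stepH1_12),
    (stepH13, stepH0_13, stepF13, stepH1_13),
    (stepH14, stepH0_14, stepF14, stepH1_14),
    (stepH15, stepH0_15, stepF15, stepH1_15),
    (stepH16, stepH0_16, stepF16, stepH1_16)]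

theorem steps_ok : ∀ s ∈ steps, x 1 • wordVal x s.1 • q1 = wordVal x (s.2.2.2 ++ s.2.2.1) • q1 := by
  intro s hs
  simp only [steps, List.mem_cons, List.not_mem_nil, or_false] at hs
  rcases hs with rfl | rfl | rfl | rfl | rfl | rfl | rfl | rfl | rfl | rfl | rfl | rfl | rfl | rfl | rfl | rfl | rfl
  · exact step_ok (h := stepH0) (h0 := stepH0_0) (fw := stepF0) (h1 := stepH1_0) (by decide +kernel) step0_h step0_hf step0_p step0_pf step0_k
  · exact step_ok (h := stepH1) (h0 := stepH0_1) (fw := stepF1) (h1 := stepH1_1) (by decide +kernel) step1_h step1_hf step1_p step1_pf step1_k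
  · exact step_ok (h := stepH2) (h0 := stepH0_2) (fw := stepF2) (h1 := stepH1_2) (by decide +kernel) step2_h step2_hf step2_p step2_pf step2_k
  · exact step_ok (h := stepH3) (h0 := stepH0_3) (fw := stepF3) (h1 := stepH1_3) (by decide +kernel) step3_h step3_hf step3_p step3_pf step3_k
  · exact step_ok (h := stepH4) (h0 := stepH0_4) (fw := stepF4) (h1 := stepH1_4) (by decide +kernel) step4_h step4_hf step4_p step4_pf step4_k
  · exact step_ok (h := stepH5) (h0 := stepH0_5) (fw := stepF5) (h1 := stepH1_5) (by decide +kernel) step5_h step5_hf step5_p step5_pf step5_k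
  · exact step_ok (h := stepH6) (h0 := stepH0_6) (fw := stepF6) (h1 := stepH1_6) (by decide +kernel) step6_h step6_hf step6_p step6_pf step6_k
  · exact step_ok (h := stepH7) (h0 := stepH0_7) (fw := stepF7) (h1 := stepH1_7) (by decide +kernel) step7_h step7_hf step7_p step7_pf step7_k
  · exact step_ok (h := stepH8) (h0 := stepH0_8) (fw := stepF8) (h1 := stepH1_8) (by decide +kernel) step8_h step8_hf step8_p step8_pf step8_k
  · exact step_ok (h := stepH9) (h0 := stepH0_9) (fw := stepF9) (h1 := stepH1_9) (by decide +kernel) step9_h step9_hf step9_p step9_pf step9_k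
  · exact step_ok (h := stepH10) (h0 := stepH0_10) (fw := stepF10) (h1 := stepH1_10) (by decide +kernel) step10_h step10_hf step10_p step10_pf step10_k
  · exact step_ok (h := stepH11) (h0 := stepH0_11) (fw := stepF11) (h1 := stepH1_11) (by decide +kernel) step11_h step11_hf step11_p step11_pf step11_k
  · exact step_ok (h := stepH12) (h0 := stepH0_12) (fw := stepF12) (h1 := stepH1_12) (by decide +kernel) step12_h step12_hf step12_p step12_pf step12_k
  · exact step_ok (h := stepH13) (h0 := stepH0_13) (fw := stepF13) (h1 := stepH1_13) (by decide +kernel) step13_h step13_hf step13_p step13_pf step13_k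
  · exact step_ok (h := stepH14) (h0 := stepH0_14) (fw := stepF14) (h1 := stepH1_14) (by decide +kernel) step14_h step14_hf step14_p step14_pf step14_k
  · exact step_ok (h := stepH15) (h0 := stepH0_15) (fw := stepF15) (h1 := stepH1_15) (by decide +kernel) step15_h step15_hf step15_p step15_pf step15_k
  · exact step_ok (h := stepH16) (h0 := stepH0_16) (fw := stepF16) (h1 := stepH1_16) (by decide +kernel) step16_h step16_hf step16_p step16_pf step16_k

/-- Follow a word from a word in the large subgroup. -/
def walkH : List ℕ → List Step → List ℕ → Option (List ℕ)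
  | [], _, cur => some cur
  | g :: w, ss, cur =>
    if g = 1 then
      match ss with
      | [] => none
      | s :: ss => if beqW s.1 cur then walkH w ss (s.2.2.2 ++ s.2.2.1) else none
    else walkH w ss (cur ++ [g])

theorem walkH_sound : ∀ (w : List ℕ), (∀ g ∈ w, g ≠ eps) → ∀ (ss : List Step) (cur e : List ℕ),
    (∀ s ∈ ss, x 1 • wordVal x s.1 • q1 = wordVal x (s.2.2.2 ++ s.2.2.1) • q1) →
    walkH w ss cur = some e → wordVal x w • wordVal x cur • q1 = wordVal x e • q1
  | [], _, ss, cur, e, _, h => by
    rw [walkH, Option.some.injEq] at h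
    rw [h]
    exact one_smul _ _
  | g :: w, hw, ss, cur, e, hss, h => by
    have hg : g ≠ eps := hw g (by simp)
    have hw' : ∀ a ∈ w, a ≠ eps := fun a ha => hw a (by simp [ha])
    rw [wordVal, mul_smul, show gen x g = x g by simp [gen, hg]]
    unfold walkH at h
    split at h
    · next hg1 =>
      subst hg1
      cases ss with
      | nil => simp at h
      | cons s ss =>
        simp only at h
        split at h
        · next hb =>
          rw [← beqW_eq hb, hss s (by simp)]
          exact walkH_sound w hw' ss _ e (fun t ht => hss t (by simp [ht])) h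
        · simp at h
    · rw [show x g • wordVal x cur • q1 = wordVal x (cur ++ [g]) • q1 by
        rw [wordVal_append, wordVal_one hg, mul_smul]]
      exact walkH_sound w hw' ss _ e hss h

theorem loop_fix : wordVal x loopEnd • q1 = wordVal x loopStart • q1 := by
  have h1 : wordVal x loopWord = 1 :=
    shift_eq_one x_mul_self (R0 := [zWord]) (R := [loopWord]) (by decide +kernel)
      (fun r hr => by
        rw [List.mem_singleton] at hr
        subst hr
        exact x_rel _ (List.mem_append_right _ (by simp [extraWords]))) _ (by simp)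
  have := walkH_sound loopWord (by decide +kernel) steps loopStart loopEnd steps_ok (by decide +kernel)
  rw [h1, one_smul] at this
  exact this.symm

/-- The extra element centralising the coset of `k`. -/
noncomputable def turn : Spor.Fi24 := wordVal x turnWord

theorem turn_mem : turn ∈ Hsub := mem_subW_of_over (by decide +kernel)

theorem turn_q1 : turn • q1 = q1 := by
  have : turnWord = loopEnd ++ loopStart.reverse := by decide +kernel
  rw [turn, this, wordVal_append, mul_smul, loop_fix, smul_smul, wordVal_reverse x_mul_self,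
    inv_mul_cancel, one_smul]

/-- The coset of the second suborbit. -/
def qw : Cosets := wordVal x [1, 2, 0, 1] • q0

theorem w_mem : wordVal x [1, 2, 0, 1] ∈ P22 := mem_subW_of_over (by decide +kernel)

theorem f_w : f (wordVal x [1, 2, 0, 1]) p0 = pw := by
  rw [f_word (by decide)]
  exact wordVal_point (p := p0) (q := pw) lens_ok range_ok (k := 15) (by decide) (by decide) pw_ok

theorem fix_qw_of_commute {g : ℕ} (hH : x g ∈ Hsub) (c1 : Commute (x g) (x 1))
    (c2 : Commute (x g) (x 2)) (c0 : Commute (x g) (x 0)) : x g • qw = qw := by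
  have h : Commute (x g) (wordVal x [1, 2, 0, 1]) := by
    simpa [wordVal, gen, eps, mul_assoc] using c1.mul_right (c0.mul_right (c2.mul_right c1))
  rw [qw, smul_smul, h.eq, mul_smul, fix_q0 hH]

theorem s2_fix : ∀ a ∈ subW s20Words, a • qw = qw := by
  intro a ha
  induction ha using Subgroup.closure_induction with
  | one => exact one_smul _ _
  | mem a h =>
    obtain ⟨u, hu, rfl⟩ := h
    rcases (show ∀ u ∈ s20Words, u = [8] ∨ u = [9] ∨ overOK h220Words u = true by
      decide +kernel) u hu with rfl | rfl | h
    · rw [wordVal_one (by decide)]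
      refine fix_qw_of_commute ?_ (commute_gens (by decide) (by decide) (by decide +kernel))
        (commute_gens (by decide) (by decide) (by decide +kernel))
        (commute_gens (by decide) (by decide) (by decide +kernel))
      have := mem_subW_of_over (show overOK bigWords [8] = true by decide +kernel)
      rwa [wordVal_one (by decide)] at this
    · rw [wordVal_one (by decide)]
      refine fix_qw_of_commute ?_ (commute_gens (by decide) (by decide) (by decide +kernel))
        (commute_gens (by decide) (by decide) (by decide +kernel))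
        (commute_gens (by decide) (by decide) (by decide +kernel))
      have := mem_subW_of_over (show overOK bigWords [9] = true by decide +kernel)
      rwa [wordVal_one (by decide)] at this
    have hk : f (wordVal x u) pw = pw := by
      have hu' : f (wordVal x u) ∈ wordsGroup nets 306936 s20Words := by
        rw [← map_subW (by decide +kernel)]
        exact Subgroup.mem_map_of_mem f (wordVal_mem_subW hu)
      exact fixes_of_keep lens_ok range_ok (by decide) (by decide +kernel) (p := pw) s20_fixw _ hu'
    rw [qw, smul_smul]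
    refine coset22 (mul_mem (h22_le_p22 (mem_subW_of_over h)) w_mem) w_mem ?_
    rw [map_mul, Equiv.Perm.mul_apply, f_w, hk]
  | mul a b _ _ ha hb => rw [mul_smul, hb, ha]
  | inv a _ ha =>
    conv_lhs => rw [← ha]
    rw [inv_smul_smul]

theorem orbit_bound {q : Cosets} {K : Subgroup Spor.Fi24} (hK : K ≤ Hsub)
    (hfix : ∀ a ∈ K, a • q = q) {m : ℕ} (hm : m ≤ Nat.card K) :
    (MulAction.orbit Hsub q).Finite ∧
      m * (MulAction.orbit Hsub q).ncard ≤ 8178940946586009600 := by
  have := h_card.1
  refine ⟨Set.finite_range _, ?_⟩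
  rw [← h_exact, ← Subgroup.card_mul_index (MulAction.stabilizer Hsub q),
    MulAction.index_stabilizer]
  refine Nat.mul_le_mul_right _ (hm.trans ?_)
  refine Nat.card_le_card_of_injective (fun a : K => (⟨⟨a.1, hK a.2⟩, hfix a.1 a.2⟩ :
    MulAction.stabilizer Hsub q)) fun a b hab => ?_
  exact Subtype.ext (congrArg (fun z : MulAction.stabilizer Hsub q => (z.1 : Spor.Fi24)) hab)

theorem stab_group_le : subW stabWords ≤ Hsub := subW_le (by decide +kernel)

theorem stab_q1 : ∀ a ∈ subW stabWords, a • q1 = q1 := by
  intro a ha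
  induction ha using Subgroup.closure_induction with
  | one => exact one_smul _ _
  | mem a h =>
    obtain ⟨u, hu, rfl⟩ := h
    rcases List.mem_append.1 hu with h | h
    · exact B_fix_q1 (wordVal_mem_subW h)
    · rw [List.mem_singleton] at h
      subst h
      exact turn_q1
  | mul a b _ _ ha hb => rw [mul_smul, hb, ha]
  | inv a _ ha =>
    conv_lhs => rw [← ha]
    rw [inv_smul_smul]

theorem card_map_le {K : Subgroup Spor.Fi24} [Finite K] : Nat.card (K.map f) ≤ Nat.card K :=
  Nat.card_le_card_of_surjective (fun b : K => (⟨f b, ⟨b, b.2, rfl⟩⟩ : K.map f))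
    (by rintro ⟨_, b, hb, rfl⟩; exact ⟨⟨b, hb⟩, rfl⟩)

theorem orbit1 : (MulAction.orbit Hsub q1).Finite ∧
    (MulAction.orbit Hsub q1).ncard ≤ 275264 := by
  have := h_card.1
  have : Finite (subW stabWords) := Finite.of_injective _ (Subgroup.inclusion_injective stab_group_le)
  obtain ⟨h1, h2⟩ := orbit_bound stab_group_le stab_q1 (m := 29713078886400)
    (stab_order.trans ((le_of_eq (by rw [map_subW (by decide +kernel)])).trans card_map_le))
  exact ⟨h1, by omega⟩

theorem orbit2 : (MulAction.orbit Hsub qw).Finite ∧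
    (MulAction.orbit Hsub qw).ncard ≤ 31671 := by
  have := h_card.1
  have hle : subW s20Words ≤ Hsub := subW_le (by decide +kernel)
  have : Finite (subW s20Words) := Finite.of_injective _ (Subgroup.inclusion_injective hle)
  obtain ⟨h1, h2⟩ := orbit_bound hle s2_fix (m := 258247006617600)
    (s2_order.trans ((le_of_eq (by rw [map_subW (by decide +kernel)])).trans card_map_le))
  exact ⟨h1, by omega⟩

/-- The candidate set of all cosets. -/
def X : Set Cosets := insert q0 (MulAction.orbit Hsub q1 ∪ MulAction.orbit Hsub qw)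

theorem X_finite : X.Finite := (orbit1.1.union orbit2.1).insert _

theorem X_card : X.ncard ≤ 306936 := by
  refine (Set.ncard_insert_le _ _).trans ?_
  have := Set.ncard_union_le (MulAction.orbit Hsub q1) (MulAction.orbit Hsub qw)
  have := orbit1.2
  have := orbit2.2
  omega

theorem X_h {a : Spor.Fi24} (ha : a ∈ Hsub) {q : Cosets} (hq : q ∈ X) : a • q ∈ X := by
  rcases hq with rfl | h | h
  · exact Or.inl (fix_q0 ha)
  · obtain ⟨b, rfl⟩ := h
    exact Or.inr (Or.inl ⟨⟨a, ha⟩ * b, mul_smul (⟨a, ha⟩ : Hsub) b q1⟩)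
  · obtain ⟨b, rfl⟩ := h
    exact Or.inr (Or.inr ⟨⟨a, ha⟩ * b, mul_smul (⟨a, ha⟩ : Hsub) b qw⟩)

/-- The point of a coset. -/
noncomputable def π (q : Cosets) : Fin 306936 :=
  Quotient.liftOn' q (fun a => f a p0) (by
    intro a b hab
    rw [QuotientGroup.leftRel_apply] at hab
    show f a _ = f b _
    rw [show b = a * (a⁻¹ * b) by group, map_mul, Equiv.Perm.mul_apply, h_fix hab])

theorem π_smul (a : Spor.Fi24) (q : Cosets) : π (a • q) = f a (π q) := by
  obtain ⟨b, rfl⟩ := QuotientGroup.mk_surjective q
  show f (a * b) p0 = f a (f b p0)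
  rw [map_mul, Equiv.Perm.mul_apply]

theorem π_q0 : π q0 = p0 := by
  show f 1 p0 = p0
  simp

theorem seed22 {a : Spor.Fi24} (ha : a ∈ P22) : a • q0 ∈ X := by
  have hkeep : f a p0 ∈ pts 306936 p220T1 := by
    have hm : f a ∈ wordsGroup nets 306936 p220Words := by
      rw [← map_subW (by decide +kernel)]
      exact Subgroup.mem_map_of_mem f ha
    have h0 : p0 ∈ pts 306936 p220T1 := by
      show p220T1.testBit 0 = true
      decide +kernel
    rw [← keep_invariant lens_ok range_ok (by decide) (by decide +kernel) p22_keep hm]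
    exact ⟨p0, h0, rfl⟩
  rw [Nat.eq_of_beq_eq_true p22_split] at hkeep
  have cases3 : f a p0 = p0 ∨ f a p0 ∈ pts 306936 h220T0 ∨ f a p0 ∈ pts 306936 o351T0 := by
    change (point 0 ||| (h220T0 ||| o351T0)).testBit _ = true at hkeep
    rw [Nat.testBit_or, Nat.testBit_or, Bool.or_eq_true, Bool.or_eq_true, testBit_point,
      decide_eq_true_eq] at hkeep
    exact hkeep.imp (fun h => Fin.ext h) id
  have hmap : wordsGroup nets 306936 h220Words = (subW h220Words).map f :=
    (map_subW (by decide +kernel)).symm
  rcases cases3 with h | h | h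
  · rw [coset22 ha (one_mem _) (by rw [h]; simp), one_smul]
    exact Or.inl rfl
  · obtain ⟨g, hg, hgp⟩ := h22_reach_k _ h
    rw [hmap] at hg
    obtain ⟨b, hb, rfl⟩ := hg
    rw [coset22 ha (mul_mem (h22_le_p22 hb) x1_mem) (by
      rw [map_mul, Equiv.Perm.mul_apply, f_x1_pk]; exact hgp.symm), mul_smul]
    exact X_h (h22_le hb) (Or.inr (Or.inl (MulAction.mem_orbit_self _)))
  · obtain ⟨g, hg, hgp⟩ := h22_reach_w _ h
    rw [hmap] at hg
    obtain ⟨b, hb, rfl⟩ := hg
    rw [coset22 ha (mul_mem (h22_le_p22 hb) w_mem) (by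
      rw [map_mul, Equiv.Perm.mul_apply, f_w]; exact hgp.symm), mul_smul]
    exact X_h (h22_le hb) (Or.inr (Or.inr (MulAction.mem_orbit_self _)))

/-- A point has a coset that stays in the set after `k`. -/
def Good (i : Fin 306936) : Prop := ∃ q ∈ X, π q = i ∧ x 1 • q ∈ X

theorem good_B : ∀ u ∈ b80Words, ∀ i, Good i → Good (wordVal P u i) := by
  rintro u hu i ⟨q, hq, rfl, hk⟩
  have hm : wordVal x u ∈ Bsub := wordVal_mem_subW hu
  refine ⟨wordVal x u • q, X_h (B_le hm) hq, ?_, ?_⟩
  · rw [π_smul, f_word ((show ∀ u ∈ b80Words, ∀ g ∈ u, g < 12 by decide +kernel) u hu)]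
  · rw [smul_smul, (commute_B hm).eq, ← smul_smul]
    exact X_h (B_le hm) hk

theorem good_turn {i : Fin 306936} (hi : Good i) : Good (f turn i) := by
  obtain ⟨q, hq, rfl, hk⟩ := hi
  refine ⟨turn • q, X_h turn_mem hq, π_smul _ _, ?_⟩
  have h1 : x 1 * turn * x 1 ∈ Hsub := by
    have h2 := turn_q1
    rw [q1, smul_smul] at h2
    have h3 : (x 1 * (turn * x 1)) • q0 = q0 := by
      rw [mul_smul, h2, smul_smul, x_mul_self, one_smul]
    rw [smul_q0] at h3
    have := QuotientGroup.eq.1 h3
    rw [mul_one, inv_mem_iff, ← mul_assoc] at this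
    exact this
  rw [show x 1 • turn • q = (x 1 * turn * x 1) • x 1 • q by
    rw [smul_smul, smul_smul, mul_assoc (x 1 * turn), x_mul_self, mul_one]]
  exact X_h h1 hk

theorem good_seed : ∀ i ∈ pts 306936 p220T1, Good i := by
  intro i hi
  obtain ⟨g, hg, rfl⟩ := p22_reach i hi
  rw [← map_subW (by decide +kernel)] at hg
  obtain ⟨a, ha, rfl⟩ := hg
  refine ⟨a • q0, seed22 ha, by rw [π_smul, π_q0]; rfl, ?_⟩
  rw [smul_smul]
  exact seed22 (mul_mem x1_mem ha)

theorem cover_mem (i : Fin 306936) :
    i ∈ pts 306936 (reach nets coverWords 9 p220T1) ∨ i ∈ pts 306936 o8 := by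
  have h := congrArg (fun z => Nat.testBit z i.1) (Nat.eq_of_beq_eq_true cover)
  change (reach nets coverWords 9 p220T1 ||| o8).testBit i.1 = (below 306936).testBit i.1 at h
  rw [Nat.testBit_or, testBit_below, decide_eq_true i.2, Bool.or_eq_true] at h
  exact h

theorem good_all (i : Fin 306936) : Good i := by
  have hcw : ∀ u ∈ coverWords, u ∈ b80Words := by decide +kernel
  have h1 : ∀ i ∈ pts 306936 (reach nets coverWords 9 p220T1), Good i :=
    reach_pred lens_ok range_ok (by decide) (by decide +kernel)
      (fun u hu => good_B u (hcw u hu)) _ _ good_seed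
  rcases cover_mem i with h | h
  · exact h1 i h
  have hdisj : ∀ j ∈ pts 306936 o6, j ∉ pts 306936 o8 := fun j hj hj' => by
    have h0 : Nat.land o6 o8 = 0 := by decide +kernel
    have := congrArg (fun z => Nat.testBit z j.1) h0
    change (o6 &&& o8).testBit j.1 = Nat.testBit 0 j.1 at this
    rw [Nat.testBit_and, hj, hj', Nat.zero_testBit] at this
    simp at this
  have hturn : ∀ j ∈ pts 306936 turnSet, Good j := by
    intro j hj
    rw [← turn_image, smul_eq_image] at hj
    obtain ⟨j', hj', rfl⟩ := hj
    rw [← f_word (by decide +kernel)]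
    exact good_turn (h1 j' ((cover_mem j').resolve_right (hdisj j' hj')))
  have h2 : ∀ j ∈ pts 306936 o8gT0, Good j :=
    grown_pred lens_ok range_ok (by decide) (by decide +kernel)
      (fun u hu => good_B u ((show ∀ u ∈ o8gU0, u ∈ b80Words by decide +kernel) u hu)) hturn
      o8g_grown0
  refine h2 i ?_
  have := congrArg (fun z => Nat.testBit z i.1) (Nat.eq_of_beq_eq_true o8_sub)
  change (o8 &&& o8gT0).testBit i.1 = o8.testBit i.1 at this
  rw [Nat.testBit_and, show o8.testBit i.1 = true from h, Bool.true_and] at this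
  exact this

theorem π_inj_on : Set.InjOn π X := by
  have hs : π '' X = Set.univ := Set.eq_univ_of_forall fun i => by
    obtain ⟨q, hq, hqi, -⟩ := good_all i
    exact ⟨q, hq, hqi⟩
  refine (Set.ncard_image_iff X_finite).1 ?_
  refine le_antisymm (Set.ncard_image_le X_finite) ?_
  rw [hs, Set.ncard_univ, Nat.card_fin]
  exact X_card

theorem X_univ : X = Set.univ := by
  have hk : ∀ q ∈ X, x 1 • q ∈ X := fun q hq => by
    obtain ⟨q', hq', he, hk'⟩ := good_all (π q)
    rwa [← π_inj_on hq' hq he]
  refine Set.eq_univ_of_forall fun q => ?_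
  obtain ⟨a, rfl⟩ := QuotientGroup.mk_surjective q
  have hall : ∀ g < 12, ∀ q ∈ X, x g • q ∈ X := fun g hg => by
    by_cases h1 : g = 1
    · subst h1; exact hk
    · have : x g ∈ Hsub := by
        have := mem_subW_of_over ((show ∀ g < 12, g ≠ 1 → overOK bigWords [g] = true by
          decide +kernel) g hg h1)
        rwa [wordVal_one (by simp only [eps]; omega)] at this
      exact fun q hq => X_h this hq
  have ha : a ∈ Subgroup.closure (x '' {g | g < 12}) := by rw [closure_x]; trivial
  rw [← smul_q0]
  suffices ∀ q ∈ X, a • q ∈ X from this _ (Or.inl rfl)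
  induction ha using Subgroup.closure_induction with
  | one => exact fun q hq => by rwa [one_smul]
  | mem z hz => obtain ⟨g, hg, rfl⟩ := hz; exact hall g hg
  | mul b c _ _ hb hc => exact fun q hq => by rw [mul_smul]; exact hb _ (hc q hq)
  | inv b _ hb =>
    intro q hq
    have hs : (fun q => b • q) '' X = X := Set.eq_of_subset_of_ncard_le
      (Set.image_subset_iff.2 hb) (by rw [Set.ncard_image_of_injective _ (MulAction.injective b)])
      X_finite
    obtain ⟨q', hq', rfl⟩ : q ∈ (fun q => b • q) '' X := hs.symm ▸ hq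
    rw [inv_smul_smul]
    exact hq'

theorem π_bijective : Function.Bijective π := by
  refine ⟨fun q q' h => π_inj_on ?_ ?_ h, fun i => ?_⟩
  · rw [X_univ]; trivial
  · rw [X_univ]; trivial
  · obtain ⟨q, -, hq, -⟩ := good_all i
    exact ⟨q, hq⟩

theorem index_Hsub : Hsub.index = 306936 := by
  rw [Subgroup.index_eq_card]
  exact (Nat.card_eq_of_bijective π π_bijective).trans (Nat.card_fin _)

theorem card_Fi24 : Nat.card Spor.Fi24 = 2510411418381323442585600 := by
  rw [← Subgroup.card_mul_index Hsub, h_exact, index_Hsub]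

theorem finite_Fi24 : Finite Spor.Fi24 := Nat.finite_of_card_ne_zero (by rw [card_Fi24]; decide)

theorem f_injective : Function.Injective f := by
  rw [injective_iff_map_eq_one]
  intro a ha
  have h : (a : Cosets) = q0 := π_bijective.1 (by show f a p0 = π q0; rw [ha, π_q0]; rfl)
  have hm := QuotientGroup.eq.1 h
  rw [mul_one, inv_mem_iff] at hm
  exact h_inj a hm ha

end Cfsg.Lib.BigPerm.Fi24
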