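import Cfsg.Agent.Lib.BigPerm.Fi24.Rep

/-!
# Lower bounds on orders in the representation (generated proofs)
-/

set_option autoImplicit false
set_option maxRecDepth 100000
set_option maxHeartbeats 4000000

namespace Cfsg.Lib.BigPerm.Fi24

open Cfsg.Lib.CosetEnum Cfsg.Lib.BigPerm.Fi24Cert

/-- Every word of the first list is in the second. -/
def subOK (V U : List (List ℕ)) : Bool := V.all fun v => U.any fun u => beqW u v

theorem mem_of_subOK {V U : List (List ℕ)} (h : subOK V U = true) {u : List ℕ} (hu : u ∈ V) :
    wordVal (bperm Fi24Net.nets 306936) u ∈ wordsGroup Fi24Net.nets 306936 U := by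
  obtain ⟨v, hv, hbeq⟩ := List.any_eq_true.1 (List.all_eq_true.1 h u hu)
  rw [← beqW_eq hbeq]
  exact wordVal_mem_wordsGroup hv

theorem h22_order : 9170703360 ≤ Nat.card (wordsGroup Fi24Net.nets 306936 h220Words) := by
  have o6 : 2 ≤ (MulAction.orbit (wordsGroup Fi24Net.nets 306936 h226Words) (⟨275517, by decide⟩ : Fin 306936)).ncard :=
    ((inOrbit_point (wordsGroup Fi24Net.nets 306936 h226Words) ⟨275517, by decide⟩).grown lens_ok range_ok (by decide) (U := h226U0) (T := h226T0) (by decide +kernel)
      (fun _ hu => mem_of_subOK (by decide +kernel) hu) h226_grown0).ncard_le h226_count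
  have c6 : 2 ≤ Nat.card (wordsGroup Fi24Net.nets 306936 h226Words) :=
    (card_ge bot_le (by simp) o6 (m := 1) (by simp)).trans' (by decide)
  have o5 : 2 ≤ (MulAction.orbit (wordsGroup Fi24Net.nets 306936 h225Words) (⟨275537, by decide⟩ : Fin 306936)).ncard :=
    ((inOrbit_point (wordsGroup Fi24Net.nets 306936 h225Words) ⟨275537, by decide⟩).grown lens_ok range_ok (by decide) (U := h225U0) (T := h225T0) (by decide +kernel)
      (fun _ hu => mem_of_subOK (by decide +kernel) hu) h225_grown0).ncard_le h225_count
  have c5 : 4 ≤ Nat.card (wordsGroup Fi24Net.nets 306936 h225Words) :=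
    (card_ge (wordsGroup_le _ (inv_letters (by decide +kernel)) _ _ h226_comp)
      (fixes_of_keep lens_ok range_ok (by decide) (by decide +kernel) (p := ⟨275537, by decide⟩) h225_fix) o5 c6).trans' (by decide)
  have o4 : 9 ≤ (MulAction.orbit (wordsGroup Fi24Net.nets 306936 h224Words) (⟨275397, by decide⟩ : Fin 306936)).ncard :=
    ((inOrbit_point (wordsGroup Fi24Net.nets 306936 h224Words) ⟨275397, by decide⟩).grown lens_ok range_ok (by decide) (U := h224U0) (T := h224T0) (by decide +kernel)
      (fun _ hu => mem_of_subOK (by decide +kernel) hu) h224_grown0).ncard_le h224_count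
  have c4 : 36 ≤ Nat.card (wordsGroup Fi24Net.nets 306936 h224Words) :=
    (card_ge (wordsGroup_le _ (inv_letters (by decide +kernel)) _ _ h225_comp)
      (fixes_of_keep lens_ok range_ok (by decide) (by decide +kernel) (p := ⟨275397, by decide⟩) h224_fix) o4 c5).trans' (by decide)
  have o3 : 18 ≤ (MulAction.orbit (wordsGroup Fi24Net.nets 306936 h223Words) (⟨6, by decide⟩ : Fin 306936)).ncard :=
    (((inOrbit_point (wordsGroup Fi24Net.nets 306936 h223Words) ⟨6, by decide⟩).grown lens_ok range_ok (by decide) (U := h223U0) (T := h223T0) (by decide +kernel)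
      (fun _ hu => mem_of_subOK (by decide +kernel) hu) h223_grown0).grown lens_ok range_ok (by decide) (U := h223U1) (T := h223T1) (by decide +kernel)
      (fun _ hu => mem_of_subOK (by decide +kernel) hu) h223_grown1).ncard_le h223_count
  have c3 : 648 ≤ Nat.card (wordsGroup Fi24Net.nets 306936 h223Words) :=
    (card_ge (wordsGroup_le _ (inv_letters (by decide +kernel)) _ _ h224_comp)
      (fixes_of_keep lens_ok range_ok (by decide) (by decide +kernel) (p := ⟨6, by decide⟩) h223_fix) o3 c4).trans' (by decide)
  have o2 : 80 ≤ (MulAction.orbit (wordsGroup Fi24Net.nets 306936 h222Words) (⟨171, by decide⟩ : Fin 306936)).ncard :=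
    ((inOrbit_point (wordsGroup Fi24Net.nets 306936 h222Words) ⟨171, by decide⟩).grown lens_ok range_ok (by decide) (U := h222U0) (T := h222T0) (by decide +kernel)
      (fun _ hu => mem_of_subOK (by decide +kernel) hu) h222_grown0).ncard_le h222_count
  have c2 : 51840 ≤ Nat.card (wordsGroup Fi24Net.nets 306936 h222Words) :=
    (card_ge (wordsGroup_le _ (inv_letters (by decide +kernel)) _ _ h223_comp)
      (fixes_of_keep lens_ok range_ok (by decide) (by decide +kernel) (p := ⟨171, by decide⟩) h222_fix) o2 c3).trans' (by decide)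
  have o1 : 243 ≤ (MulAction.orbit (wordsGroup Fi24Net.nets 306936 h221Words) (⟨3, by decide⟩ : Fin 306936)).ncard :=
    ((inOrbit_point (wordsGroup Fi24Net.nets 306936 h221Words) ⟨3, by decide⟩).grown lens_ok range_ok (by decide) (U := h221U0) (T := h221T0) (by decide +kernel)
      (fun _ hu => mem_of_subOK (by decide +kernel) hu) h221_grown0).ncard_le h221_count
  have c1 : 12597120 ≤ Nat.card (wordsGroup Fi24Net.nets 306936 h221Words) :=
    (card_ge (wordsGroup_le _ (inv_letters (by decide +kernel)) _ _ h222_comp)
      (fixes_of_keep lens_ok range_ok (by decide) (by decide +kernel) (p := ⟨3, by decide⟩) h221_fix) o1 c2).trans' (by decide)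
  have o0 : 728 ≤ (MulAction.orbit (wordsGroup Fi24Net.nets 306936 h220Words) (⟨1, by decide⟩ : Fin 306936)).ncard :=
    ((inOrbit_point (wordsGroup Fi24Net.nets 306936 h220Words) ⟨1, by decide⟩).grown lens_ok range_ok (by decide) (U := h220U0) (T := h220T0) (by decide +kernel)
      (fun _ hu => mem_of_subOK (by decide +kernel) hu) h220_grown0).ncard_le h220_count
  have c0 : 9170703360 ≤ Nat.card (wordsGroup Fi24Net.nets 306936 h220Words) :=
    (card_ge (wordsGroup_le _ (inv_letters (by decide +kernel)) _ _ h221_comp)
      (fixes_of_keep lens_ok range_ok (by decide) (by decide +kernel) (p := ⟨1, by decide⟩) h220_fix) o0 c1).trans' (by decide)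
  exact c0

theorem r8_order : 9170703360 ≤ Nat.card (wordsGroup Fi24Net.nets 306936 r80Words) := by
  have o6 : 2 ≤ (MulAction.orbit (wordsGroup Fi24Net.nets 306936 r86Words) (⟨305571, by decide⟩ : Fin 306936)).ncard :=
    ((inOrbit_point (wordsGroup Fi24Net.nets 306936 r86Words) ⟨305571, by decide⟩).grown lens_ok range_ok (by decide) (U := r86U0) (T := r86T0) (by decide +kernel)
      (fun _ hu => mem_of_subOK (by decide +kernel) hu) r86_grown0).ncard_le r86_count
  have c6 : 2 ≤ Nat.card (wordsGroup Fi24Net.nets 306936 r86Words) :=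
    (card_ge bot_le (by simp) o6 (m := 1) (by simp)).trans' (by decide)
  have o5 : 2 ≤ (MulAction.orbit (wordsGroup Fi24Net.nets 306936 r85Words) (⟨305660, by decide⟩ : Fin 306936)).ncard :=
    ((inOrbit_point (wordsGroup Fi24Net.nets 306936 r85Words) ⟨305660, by decide⟩).grown lens_ok range_ok (by decide) (U := r85U0) (T := r85T0) (by decide +kernel)
      (fun _ hu => mem_of_subOK (by decide +kernel) hu) r85_grown0).ncard_le r85_count
  have c5 : 4 ≤ Nat.card (wordsGroup Fi24Net.nets 306936 r85Words) :=
    (card_ge (wordsGroup_le _ (inv_letters (by decide +kernel)) _ _ r86_comp)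
      (fixes_of_keep lens_ok range_ok (by decide) (by decide +kernel) (p := ⟨305660, by decide⟩) r85_fix) o5 c6).trans' (by decide)
  have o4 : 9 ≤ (MulAction.orbit (wordsGroup Fi24Net.nets 306936 r84Words) (⟨305663, by decide⟩ : Fin 306936)).ncard :=
    ((inOrbit_point (wordsGroup Fi24Net.nets 306936 r84Words) ⟨305663, by decide⟩).grown lens_ok range_ok (by decide) (U := r84U0) (T := r84T0) (by decide +kernel)
      (fun _ hu => mem_of_subOK (by decide +kernel) hu) r84_grown0).ncard_le r84_count
  have c4 : 36 ≤ Nat.card (wordsGroup Fi24Net.nets 306936 r84Words) :=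
    (card_ge (wordsGroup_le _ (inv_letters (by decide +kernel)) _ _ r85_comp)
      (fixes_of_keep lens_ok range_ok (by decide) (by decide +kernel) (p := ⟨305663, by decide⟩) r84_fix) o4 c5).trans' (by decide)
  have o3 : 18 ≤ (MulAction.orbit (wordsGroup Fi24Net.nets 306936 r83Words) (⟨275620, by decide⟩ : Fin 306936)).ncard :=
    (((inOrbit_point (wordsGroup Fi24Net.nets 306936 r83Words) ⟨275620, by decide⟩).grown lens_ok range_ok (by decide) (U := r83U0) (T := r83T0) (by decide +kernel)
      (fun _ hu => mem_of_subOK (by decide +kernel) hu) r83_grown0).grown lens_ok range_ok (by decide) (U := r83U1) (T := r83T1) (by decide +kernel)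
      (fun _ hu => mem_of_subOK (by decide +kernel) hu) r83_grown1).ncard_le r83_count
  have c3 : 648 ≤ Nat.card (wordsGroup Fi24Net.nets 306936 r83Words) :=
    (card_ge (wordsGroup_le _ (inv_letters (by decide +kernel)) _ _ r84_comp)
      (fixes_of_keep lens_ok range_ok (by decide) (by decide +kernel) (p := ⟨275620, by decide⟩) r83_fix) o3 c4).trans' (by decide)
  have o2 : 80 ≤ (MulAction.orbit (wordsGroup Fi24Net.nets 306936 r82Words) (⟨285695, by decide⟩ : Fin 306936)).ncard :=
    ((inOrbit_point (wordsGroup Fi24Net.nets 306936 r82Words) ⟨285695, by decide⟩).grown lens_ok range_ok (by decide) (U := r82U0) (T := r82T0) (by decide +kernel)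
      (fun _ hu => mem_of_subOK (by decide +kernel) hu) r82_grown0).ncard_le r82_count
  have c2 : 51840 ≤ Nat.card (wordsGroup Fi24Net.nets 306936 r82Words) :=
    (card_ge (wordsGroup_le _ (inv_letters (by decide +kernel)) _ _ r83_comp)
      (fixes_of_keep lens_ok range_ok (by decide) (by decide +kernel) (p := ⟨285695, by decide⟩) r82_fix) o2 c3).trans' (by decide)
  have o1 : 243 ≤ (MulAction.orbit (wordsGroup Fi24Net.nets 306936 r81Words) (⟨275678, by decide⟩ : Fin 306936)).ncard :=
    ((inOrbit_point (wordsGroup Fi24Net.nets 306936 r81Words) ⟨275678, by decide⟩).grown lens_ok range_ok (by decide) (U := r81U0) (T := r81T0) (by decide +kernel)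
      (fun _ hu => mem_of_subOK (by decide +kernel) hu) r81_grown0).ncard_le r81_count
  have c1 : 12597120 ≤ Nat.card (wordsGroup Fi24Net.nets 306936 r81Words) :=
    (card_ge (wordsGroup_le _ (inv_letters (by decide +kernel)) _ _ r82_comp)
      (fixes_of_keep lens_ok range_ok (by decide) (by decide +kernel) (p := ⟨275678, by decide⟩) r81_fix) o1 c2).trans' (by decide)
  have o0 : 728 ≤ (MulAction.orbit (wordsGroup Fi24Net.nets 306936 r80Words) (⟨306933, by decide⟩ : Fin 306936)).ncard :=
    (((inOrbit_point (wordsGroup Fi24Net.nets 306936 r80Words) ⟨306933, by decide⟩).grown lens_ok range_ok (by decide) (U := r80U0) (T := r80T0) (by decide +kernel)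
      (fun _ hu => mem_of_subOK (by decide +kernel) hu) r80_grown0).grown lens_ok range_ok (by decide) (U := r80U1) (T := r80T1) (by decide +kernel)
      (fun _ hu => mem_of_subOK (by decide +kernel) hu) r80_grown1).ncard_le r80_count
  have c0 : 9170703360 ≤ Nat.card (wordsGroup Fi24Net.nets 306936 r80Words) :=
    (card_ge (wordsGroup_le _ (inv_letters (by decide +kernel)) _ _ r81_comp)
      (fixes_of_keep lens_ok range_ok (by decide) (by decide +kernel) (p := ⟨306933, by decide⟩) r80_fix) o0 c1).trans' (by decide)
  exact c0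

theorem s2_order : 258247006617600 ≤ Nat.card (wordsGroup Fi24Net.nets 306936 s20Words) := by
  have o9 : 2 ≤ (MulAction.orbit (wordsGroup Fi24Net.nets 306936 s29Words) (⟨1, by decide⟩ : Fin 306936)).ncard :=
    ((inOrbit_point (wordsGroup Fi24Net.nets 306936 s29Words) ⟨1, by decide⟩).grown lens_ok range_ok (by decide) (U := s29U0) (T := s29T0) (by decide +kernel)
      (fun _ hu => mem_of_subOK (by decide +kernel) hu) s29_grown0).ncard_le s29_count
  have c9 : 2 ≤ Nat.card (wordsGroup Fi24Net.nets 306936 s29Words) :=
    (card_ge bot_le (by simp) o9 (m := 1) (by simp)).trans' (by decide)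
  have o8 : 2 ≤ (MulAction.orbit (wordsGroup Fi24Net.nets 306936 s28Words) (⟨306269, by decide⟩ : Fin 306936)).ncard :=
    ((inOrbit_point (wordsGroup Fi24Net.nets 306936 s28Words) ⟨306269, by decide⟩).grown lens_ok range_ok (by decide) (U := s28U0) (T := s28T0) (by decide +kernel)
      (fun _ hu => mem_of_subOK (by decide +kernel) hu) s28_grown0).ncard_le s28_count
  have c8 : 4 ≤ Nat.card (wordsGroup Fi24Net.nets 306936 s28Words) :=
    (card_ge (wordsGroup_le _ (inv_letters (by decide +kernel)) _ _ s29_comp)
      (fixes_of_keep lens_ok range_ok (by decide) (by decide +kernel) (p := ⟨306269, by decide⟩) s28_fix) o8 c9).trans' (by decide)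
  have o7 : 2 ≤ (MulAction.orbit (wordsGroup Fi24Net.nets 306936 s27Words) (⟨306926, by decide⟩ : Fin 306936)).ncard :=
    ((inOrbit_point (wordsGroup Fi24Net.nets 306936 s27Words) ⟨306926, by decide⟩).grown lens_ok range_ok (by decide) (U := s27U0) (T := s27T0) (by decide +kernel)
      (fun _ hu => mem_of_subOK (by decide +kernel) hu) s27_grown0).ncard_le s27_count
  have c7 : 8 ≤ Nat.card (wordsGroup Fi24Net.nets 306936 s27Words) :=
    (card_ge (wordsGroup_le _ (inv_letters (by decide +kernel)) _ _ s28_comp)
      (fixes_of_keep lens_ok range_ok (by decide) (by decide +kernel) (p := ⟨306926, by decide⟩) s27_fix) o7 c8).trans' (by decide)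
  have o6 : 2 ≤ (MulAction.orbit (wordsGroup Fi24Net.nets 306936 s26Words) (⟨306934, by decide⟩ : Fin 306936)).ncard :=
    ((inOrbit_point (wordsGroup Fi24Net.nets 306936 s26Words) ⟨306934, by decide⟩).grown lens_ok range_ok (by decide) (U := s26U0) (T := s26T0) (by decide +kernel)
      (fun _ hu => mem_of_subOK (by decide +kernel) hu) s26_grown0).ncard_le s26_count
  have c6 : 16 ≤ Nat.card (wordsGroup Fi24Net.nets 306936 s26Words) :=
    (card_ge (wordsGroup_le _ (inv_letters (by decide +kernel)) _ _ s27_comp)
      (fixes_of_keep lens_ok range_ok (by decide) (by decide +kernel) (p := ⟨306934, by decide⟩) s26_fix) o6 c7).trans' (by decide)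
  have o5 : 3 ≤ (MulAction.orbit (wordsGroup Fi24Net.nets 306936 s25Words) (⟨305783, by decide⟩ : Fin 306936)).ncard :=
    ((inOrbit_point (wordsGroup Fi24Net.nets 306936 s25Words) ⟨305783, by decide⟩).grown lens_ok range_ok (by decide) (U := s25U0) (T := s25T0) (by decide +kernel)
      (fun _ hu => mem_of_subOK (by decide +kernel) hu) s25_grown0).ncard_le s25_count
  have c5 : 48 ≤ Nat.card (wordsGroup Fi24Net.nets 306936 s25Words) :=
    (card_ge (wordsGroup_le _ (inv_letters (by decide +kernel)) _ _ s26_comp)
      (fixes_of_keep lens_ok range_ok (by decide) (by decide +kernel) (p := ⟨305783, by decide⟩) s25_fix) o5 c6).trans' (by decide)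
  have o4 : 3 ≤ (MulAction.orbit (wordsGroup Fi24Net.nets 306936 s24Words) (⟨306932, by decide⟩ : Fin 306936)).ncard :=
    ((inOrbit_point (wordsGroup Fi24Net.nets 306936 s24Words) ⟨306932, by decide⟩).grown lens_ok range_ok (by decide) (U := s24U0) (T := s24T0) (by decide +kernel)
      (fun _ hu => mem_of_subOK (by decide +kernel) hu) s24_grown0).ncard_le s24_count
  have c4 : 144 ≤ Nat.card (wordsGroup Fi24Net.nets 306936 s24Words) :=
    (card_ge (wordsGroup_le _ (inv_letters (by decide +kernel)) _ _ s25_comp)
      (fixes_of_keep lens_ok range_ok (by decide) (by decide +kernel) (p := ⟨306932, by decide⟩) s24_fix) o4 c5).trans' (by decide)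
  have o3 : 1440 ≤ (MulAction.orbit (wordsGroup Fi24Net.nets 306936 s23Words) (⟨305761, by decide⟩ : Fin 306936)).ncard :=
    ((((((((inOrbit_point (wordsGroup Fi24Net.nets 306936 s23Words) ⟨305761, by decide⟩).grown lens_ok range_ok (by decide) (U := s23U0) (T := s23T0) (by decide +kernel)
      (fun _ hu => mem_of_subOK (by decide +kernel) hu) s23_grown0).grown lens_ok range_ok (by decide) (U := s23U1) (T := s23T1) (by decide +kernel)
      (fun _ hu => mem_of_subOK (by decide +kernel) hu) s23_grown1).grown lens_ok range_ok (by decide) (U := s23U2) (T := s23T2) (by decide +kernel)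
      (fun _ hu => mem_of_subOK (by decide +kernel) hu) s23_grown2).grown lens_ok range_ok (by decide) (U := s23U3) (T := s23T3) (by decide +kernel)
      (fun _ hu => mem_of_subOK (by decide +kernel) hu) s23_grown3).grown lens_ok range_ok (by decide) (U := s23U4) (T := s23T4) (by decide +kernel)
      (fun _ hu => mem_of_subOK (by decide +kernel) hu) s23_grown4).grown lens_ok range_ok (by decide) (U := s23U5) (T := s23T5) (by decide +kernel)
      (fun _ hu => mem_of_subOK (by decide +kernel) hu) s23_grown5).grown lens_ok range_ok (by decide) (U := s23U6) (T := s23T6) (by decide +kernel)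
      (fun _ hu => mem_of_subOK (by decide +kernel) hu) s23_grown6).ncard_le s23_count
  have c3 : 207360 ≤ Nat.card (wordsGroup Fi24Net.nets 306936 s23Words) :=
    (card_ge (wordsGroup_le _ (inv_letters (by decide +kernel)) _ _ s24_comp)
      (fixes_of_keep lens_ok range_ok (by decide) (by decide +kernel) (p := ⟨305761, by decide⟩) s23_fix) o3 c4).trans' (by decide)
  have o2 : 512 ≤ (MulAction.orbit (wordsGroup Fi24Net.nets 306936 s22Words) (⟨306930, by decide⟩ : Fin 306936)).ncard :=
    (((((((((inOrbit_point (wordsGroup Fi24Net.nets 306936 s22Words) ⟨306930, by decide⟩).grown lens_ok range_ok (by decide) (U := s22U0) (T := s22T0) (by decide +kernel)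
      (fun _ hu => mem_of_subOK (by decide +kernel) hu) s22_grown0).grown lens_ok range_ok (by decide) (U := s22U1) (T := s22T1) (by decide +kernel)
      (fun _ hu => mem_of_subOK (by decide +kernel) hu) s22_grown1).grown lens_ok range_ok (by decide) (U := s22U2) (T := s22T2) (by decide +kernel)
      (fun _ hu => mem_of_subOK (by decide +kernel) hu) s22_grown2).grown lens_ok range_ok (by decide) (U := s22U3) (T := s22T3) (by decide +kernel)
      (fun _ hu => mem_of_subOK (by decide +kernel) hu) s22_grown3).grown lens_ok range_ok (by decide) (U := s22U4) (T := s22T4) (by decide +kernel)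
      (fun _ hu => mem_of_subOK (by decide +kernel) hu) s22_grown4).grown lens_ok range_ok (by decide) (U := s22U5) (T := s22T5) (by decide +kernel)
      (fun _ hu => mem_of_subOK (by decide +kernel) hu) s22_grown5).grown lens_ok range_ok (by decide) (U := s22U6) (T := s22T6) (by decide +kernel)
      (fun _ hu => mem_of_subOK (by decide +kernel) hu) s22_grown6).grown lens_ok range_ok (by decide) (U := s22U7) (T := s22T7) (by decide +kernel)
      (fun _ hu => mem_of_subOK (by decide +kernel) hu) s22_grown7).ncard_le s22_count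
  have c2 : 106168320 ≤ Nat.card (wordsGroup Fi24Net.nets 306936 s22Words) :=
    (card_ge (wordsGroup_le _ (inv_letters (by decide +kernel)) _ _ s23_comp)
      (fixes_of_keep lens_ok range_ok (by decide) (by decide +kernel) (p := ⟨306930, by decide⟩) s22_fix) o2 c3).trans' (by decide)
  have o1 : 693 ≤ (MulAction.orbit (wordsGroup Fi24Net.nets 306936 s21Words) (⟨275279, by decide⟩ : Fin 306936)).ncard :=
    ((((inOrbit_point (wordsGroup Fi24Net.nets 306936 s21Words) ⟨275279, by decide⟩).grown lens_ok range_ok (by decide) (U := s21U0) (T := s21T0) (by decide +kernel)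
      (fun _ hu => mem_of_subOK (by decide +kernel) hu) s21_grown0).grown lens_ok range_ok (by decide) (U := s21U1) (T := s21T1) (by decide +kernel)
      (fun _ hu => mem_of_subOK (by decide +kernel) hu) s21_grown1).grown lens_ok range_ok (by decide) (U := s21U2) (T := s21T2) (by decide +kernel)
      (fun _ hu => mem_of_subOK (by decide +kernel) hu) s21_grown2).ncard_le s21_count
  have c1 : 73574645760 ≤ Nat.card (wordsGroup Fi24Net.nets 306936 s21Words) :=
    (card_ge (wordsGroup_le _ (inv_letters (by decide +kernel)) _ _ s22_comp)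
      (fixes_of_keep lens_ok range_ok (by decide) (by decide +kernel) (p := ⟨275279, by decide⟩) s21_fix) o1 c2).trans' (by decide)
  have o0 : 3510 ≤ (MulAction.orbit (wordsGroup Fi24Net.nets 306936 s20Words) (⟨275270, by decide⟩ : Fin 306936)).ncard :=
    ((((((inOrbit_point (wordsGroup Fi24Net.nets 306936 s20Words) ⟨275270, by decide⟩).grown lens_ok range_ok (by decide) (U := s20U0) (T := s20T0) (by decide +kernel)
      (fun _ hu => mem_of_subOK (by decide +kernel) hu) s20_grown0).grown lens_ok range_ok (by decide) (U := s20U1) (T := s20T1) (by decide +kernel)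
      (fun _ hu => mem_of_subOK (by decide +kernel) hu) s20_grown1).grown lens_ok range_ok (by decide) (U := s20U2) (T := s20T2) (by decide +kernel)
      (fun _ hu => mem_of_subOK (by decide +kernel) hu) s20_grown2).grown lens_ok range_ok (by decide) (U := s20U3) (T := s20T3) (by decide +kernel)
      (fun _ hu => mem_of_subOK (by decide +kernel) hu) s20_grown3).grown lens_ok range_ok (by decide) (U := s20U4) (T := s20T4) (by decide +kernel)
      (fun _ hu => mem_of_subOK (by decide +kernel) hu) s20_grown4).ncard_le s20_count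
  have c0 : 258247006617600 ≤ Nat.card (wordsGroup Fi24Net.nets 306936 s20Words) :=
    (card_ge (wordsGroup_le _ (inv_letters (by decide +kernel)) _ _ s21_comp)
      (fixes_of_keep lens_ok range_ok (by decide) (by decide +kernel) (p := ⟨275270, by decide⟩) s20_fix) o0 c1).trans' (by decide)
  exact c0

theorem p22_orbit : 1080 ≤ (MulAction.orbit (wordsGroup Fi24Net.nets 306936 p220Words) (⟨0, by decide⟩ : Fin 306936)).ncard :=
  (((inOrbit_point (wordsGroup Fi24Net.nets 306936 p220Words) ⟨0, by decide⟩).grown lens_ok range_ok (by decide) (U := p220U0) (T := p220T0) (by decide +kernel)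
      (fun _ hu => mem_of_subOK (by decide +kernel) hu) p220_grown0).grown lens_ok range_ok (by decide) (U := p220U1) (T := p220T1) (by decide +kernel)
      (fun _ hu => mem_of_subOK (by decide +kernel) hu) p220_grown1).ncard_le p220_count

theorem b8_orbit : 1080 ≤ (MulAction.orbit (wordsGroup Fi24Net.nets 306936 b80Words) (⟨306935, by decide⟩ : Fin 306936)).ncard :=
  (((inOrbit_point (wordsGroup Fi24Net.nets 306936 b80Words) ⟨306935, by decide⟩).grown lens_ok range_ok (by decide) (U := b80U0) (T := b80T0) (by decide +kernel)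
      (fun _ hu => mem_of_subOK (by decide +kernel) hu) b80_grown0).grown lens_ok range_ok (by decide) (U := b80U1) (T := b80T1) (by decide +kernel)
      (fun _ hu => mem_of_subOK (by decide +kernel) hu) b80_grown1).ncard_le b80_count

theorem h22_reach_k : InOrbit (wordsGroup Fi24Net.nets 306936 h220Words) (⟨1, by decide⟩ : Fin 306936) h220T0 :=
  ((inOrbit_point (wordsGroup Fi24Net.nets 306936 h220Words) ⟨1, by decide⟩).grown lens_ok range_ok (by decide) (U := h220U0) (T := h220T0) (by decide +kernel)
      (fun _ hu => mem_of_subOK (by decide +kernel) hu) h220_grown0)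

theorem h22_reach_w : InOrbit (wordsGroup Fi24Net.nets 306936 h220Words) (⟨275265, by decide⟩ : Fin 306936) o351T0 :=
  ((inOrbit_point (wordsGroup Fi24Net.nets 306936 h220Words) ⟨275265, by decide⟩).grown lens_ok range_ok (by decide) (U := o351U0) (T := o351T0) (by decide +kernel)
      (fun _ hu => mem_of_subOK (by decide +kernel) hu) o351_grown0)

theorem p22_reach : InOrbit (wordsGroup Fi24Net.nets 306936 p220Words) (⟨0, by decide⟩ : Fin 306936) p220T1 :=
  (((inOrbit_point (wordsGroup Fi24Net.nets 306936 p220Words) ⟨0, by decide⟩).grown lens_ok range_ok (by decide) (U := p220U0) (T := p220T0) (by decide +kernel)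
      (fun _ hu => mem_of_subOK (by decide +kernel) hu) p220_grown0).grown lens_ok range_ok (by decide) (U := p220U1) (T := p220T1) (by decide +kernel)
      (fun _ hu => mem_of_subOK (by decide +kernel) hu) p220_grown1)

theorem p22_order : 9904359628800 ≤ Nat.card (wordsGroup Fi24Net.nets 306936 p220Words) :=
  (card_ge (wordsGroup_le _ (inv_letters (by decide +kernel)) _ _ p220_compH)
    (fixes_of_keep lens_ok range_ok (by decide) (by decide +kernel) (p := ⟨0, by decide⟩) p220_fixH)
    p22_orbit h22_order).trans' (by decide)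

theorem b_order : 9904359628800 ≤ Nat.card (wordsGroup Fi24Net.nets 306936 b80Words) :=
  (card_ge (wordsGroup_le _ (inv_letters (by decide +kernel)) _ _ b80_compR)
    (fixes_of_keep lens_ok range_ok (by decide) (by decide +kernel) (p := ⟨306935, by decide⟩) b80_fixR)
    b8_orbit r8_order).trans' (by decide)

end Cfsg.Lib.BigPerm.Fi24
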