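import Cfsg.Agent.Lib.BigPerm.Fi24.Class
import Cfsg.Agent.S1695

/-!
# The realisation of the largest Fischer group as a group of 3-transpositions
-/

set_option autoImplicit false
set_option maxRecDepth 100000

namespace Cfsg.Lib.BigPerm.Fi24

open Cfsg.Lib.CosetEnum Cfsg.Lib.BigPerm.Fi24Cert Cfsg.Spor

/-- The part of the large subgroup in the derived subgroup, as a subgroup of the whole group. -/
def Hd' : Subgroup Spor.Fi24 := Hd.map Hsub.subtype

theorem isFi23_of_equiv {A B : Type*} [Group A] [Group B] (e : A ≃* B) (h : Cfsg.IsFi23 B) :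
    Cfsg.IsFi23 A :=
  ⟨e.isSimpleGroup_congr.2 h.1, (Nat.card_congr e.toEquiv).trans h.2⟩

theorem Hd'_isFi23 : Cfsg.IsFi23 Hd' := by
  obtain ⟨e⟩ := Hd_iso
  exact isFi23_of_equiv
    ((Hd.equivMapOfInjective Hsub.subtype (Subgroup.subtype_injective _)).symm.trans e)
    Cfsg.Agent.S1697.result

theorem Hd'_le : Hd' ≤ Hsub ∧ Hd' ≤ D24 :=
  ⟨Subgroup.map_subtype_le _, by rintro _ ⟨a, ha, rfl⟩; exact ha⟩

/-- A Held subgroup gives one in the derived subgroup. -/
theorem exists_He_D24 (hHe : ∃ ψ : Spor.He →* Spor.Fi24, Function.Injective ψ) :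
    ∃ K : Subgroup D24, Cfsg.IsHe K := by
  obtain ⟨ψ, hψ⟩ := hHe
  obtain ⟨hs, hc⟩ := Cfsg.Agent.S1695.result
  have hperf : commutator Spor.He = ⊤ := by
    rcases (Subgroup.commutator_normal (⊤ : Subgroup Spor.He) ⊤).eq_bot_or_eq_top with h | h
    · exfalso
      have hcomm : ∀ a b : Spor.He, a * b = b * a := fun a b => by
        have := (commutator_eq_bot_iff_center_eq_top Spor.He).1 (show commutator Spor.He = ⊥ from h)
        exact (Subgroup.mem_center_iff.1 (this ▸ Subgroup.mem_top a) b).symm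
      letI : CommGroup Spor.He := { (inferInstance : Group Spor.He) with mul_comm := hcomm }
      have := IsSimpleGroup.prime_card (α := Spor.He)
      rw [hc] at this
      exact absurd this (by norm_num)
    · exact h
  have hle : ψ.range ≤ D24 := by
    rw [MonoidHom.range_eq_map, ← hperf]
    exact le_of_eq_of_le (Subgroup.map_commutator _ _ ψ) (Subgroup.commutator_mono le_top le_top)
  refine ⟨ψ.range.subgroupOf D24, ?_⟩
  have e := (Subgroup.subgroupOfEquivOfLe hle).trans (MonoidHom.ofInjective hψ).symm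
  exact ⟨e.isSimpleGroup_congr.2 hs, (Nat.card_congr e.toEquiv).trans hc⟩

/-- The realisation, from a Held subgroup. -/
theorem realisation (hHe : ∃ ψ : Spor.He →* Spor.Fi24, Function.Injective ψ) :
    ∃ (G : Type) (_ : Group G) (_ : Finite G), Nat.card G = 2 * 1255205709190661721292800 ∧
      ∃ D : Set G, Cfsg.IsThreeTranspositionClass D ∧ Nat.card D = 306936 ∧
        (∀ d ∈ D, Nat.card (Subgroup.centralizer ({d} : Set G)) = 2 * 4089470473293004800 ∧
          ∃ K : Subgroup G, K ≤ Subgroup.centralizer ({d} : Set G) ∧ Cfsg.IsFi23 K) ∧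
        ∃ H : Subgroup G, H.index = 2 ∧ Cfsg.IsFi24' H ∧ (∃ K : Subgroup H, Cfsg.IsFi23 K) ∧
          (∃ K : Subgroup H, Cfsg.IsHe K) := by
  refine ⟨Spor.Fi24, inferInstance, finite_Fi24, by rw [card_Fi24], D, isClass, card_D, ?_, D24,
    Cfsg.Agent.S1691.result, isFi24', ⟨Hd'.subgroupOf D24,
      isFi23_of_equiv (Subgroup.subgroupOfEquivOfLe Hd'_le.2) Hd'_isFi23⟩, exists_He_D24 hHe⟩
  intro d hd
  obtain ⟨g, rfl⟩ := isConj_iff.1 hd
  have e : (Subgroup.centralizer ({x 0} : Set Spor.Fi24)).map (MulAut.conj g).toMonoidHom =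
      Subgroup.centralizer ({g * x 0 * g⁻¹} : Set Spor.Fi24) := by
    ext a
    rw [Subgroup.mem_centralizer_singleton_iff, Subgroup.mem_map]
    constructor
    · rintro ⟨b, hb, rfl⟩
      rw [Subgroup.mem_centralizer_singleton_iff] at hb
      show g * b * g⁻¹ * (g * x 0 * g⁻¹) = g * x 0 * g⁻¹ * (g * b * g⁻¹)
      calc g * b * g⁻¹ * (g * x 0 * g⁻¹) = g * (b * x 0) * g⁻¹ := by group
        _ = _ := by rw [hb]; group
    · intro ha
      refine ⟨g⁻¹ * a * g, Subgroup.mem_centralizer_singleton_iff.2 ?_, ?_⟩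
      · calc g⁻¹ * a * g * x 0 = g⁻¹ * (a * (g * x 0 * g⁻¹)) * g := by group
          _ = _ := by rw [ha]; group
      · show g * (g⁻¹ * a * g) * g⁻¹ = a
        group
  refine ⟨?_, Hd'.map (MulAut.conj g).toMonoidHom, ?_, ?_⟩
  · rw [← e, Subgroup.card_map_of_injective (MulAut.conj g).injective, centralizer_x0, h_exact]
  · rintro _ ⟨a, ha, rfl⟩
    rw [Subgroup.mem_centralizer_singleton_iff]
    show MulAut.conj g a * _ = _ * MulAut.conj g a
    rw [MulAut.conj_apply]
    have := (l_central (Hd'_le.1 ha)).symm.eq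
    calc g * a * g⁻¹ * (g * x 0 * g⁻¹) = g * (a * x 0) * g⁻¹ := by group
      _ = g * (x 0 * a) * g⁻¹ := by rw [this]
      _ = g * x 0 * g⁻¹ * (g * a * g⁻¹) := by group
  · exact isFi23_of_equiv
      (Hd'.equivMapOfInjective _ (MulAut.conj g).injective).symm Hd'_isFi23

end Cfsg.Lib.BigPerm.Fi24
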