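import Mathlib
import Cfsg.Prelude.Def_Spor_Fi24
import Cfsg.Agent.Lib.CosetEnum.Pres
import Cfsg.Agent.Lib.BigPerm.Chain
import Cfsg.Agent.Lib.BigPerm.Fi24Cert.Checks

/-!
# The permutation representation of the presented Fi24 on 306936 points
-/

set_option autoImplicit false
set_option maxRecDepth 100000

namespace Cfsg.Lib.BigPerm.Fi24

open Cfsg.Lib.CosetEnum Cfsg.Lib.BigPerm.Fi24Cert Cfsg.Spor

/-- The number of a generator. -/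
def num : Spor.Fi24.Gen → ℕ
  | .l => 0
  | .k => 1
  | .a => 2
  | .b => 3
  | .c => 4
  | .d => 5
  | .e => 6
  | .f => 7
  | .g => 8
  | .j => 9
  | .h => 10
  | .i => 11

/-- The generator with a number. -/
def letter : ℕ → Spor.Fi24.Gen
  | 0 => .l
  | 1 => .k
  | 2 => .a
  | 3 => .b
  | 4 => .c
  | 5 => .d
  | 6 => .e
  | 7 => .f
  | 8 => .g
  | 9 => .j
  | 10 => .h
  | _ => .i

/-- The numbering. -/
def numbering : Numbering Spor.Fi24.Gen Spor.Fi24.edges where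
  num := num
  letter := letter
  k := 12
  num_lt := fun a => by cases a <;> decide
  letter_num := fun a => by cases a <;> rfl
  num_letter := by decide
  mem := fun a => by cases a <;> decide

/-- The relator `l = (E7 Coxeter element)^9`. -/
def lWord : List ℕ := (List.replicate 9 e7Word).flatten ++ [0]

/-- The central relator. -/
def zWord : List ℕ := (List.replicate 17 uWord).flatten

/-- The extra relator words. -/
def extraWords : List (List ℕ) := [lWord, zWord]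

theorem wordVal_pow {M : Type*} [Group M] (y : ℕ → M) (w : List ℕ) : ∀ m : ℕ,
    wordVal y (List.replicate m w).flatten = (wordVal y w) ^ m
  | 0 => by simp [wordVal]
  | m + 1 => by
    rw [List.replicate_succ, List.flatten_cons, wordVal_append, wordVal_pow y w m, pow_succ]

theorem map_extra {M : Type*} [Group M] (y : ℕ → M) (hy : ∀ g, y g * y g = 1) :
    Spor.Fi24.extra.map (FreeGroup.lift fun a => y (num a)) = extraWords.map (wordVal y) := by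
  have hi : ∀ g, (y g)⁻¹ = y g := fun g => inv_eq_of_mul_eq_one_left (hy g)
  simp only [Spor.Fi24.extra, extraWords, lWord, zWord, List.map_cons, List.map_nil, map_mul,
    map_pow, map_inv, FreeGroup.lift_apply_of, wordVal_append, wordVal_pow]
  congr 1
  · rw [← inv_pow]
    simp [wordVal, gen, eps, e7Word, num, mul_inv_rev, hi, mul_assoc]
  · congr 1
    simp [wordVal, gen, eps, uWord, num, mul_assoc]

/-- The generators. -/
def x : ℕ → Spor.Fi24 := numbering.gens Spor.Fi24.extra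

theorem x_mul_self (g : ℕ) : x g * x g = 1 := numbering.gens_mul_self _ g

theorem x_rel : ∀ r ∈ numbering.pairs ++ extraWords, wordVal x r = 1 :=
  numbering.wordVal_gens (by decide) (map_extra _ x_mul_self)

theorem closure_x : Subgroup.closure (x '' {g | g < 12}) = ⊤ := numbering.closure_gens _

/-- All the relation words checked on the points. -/
def relAll : List (List ℕ) :=
  relGroup0 ++ relGroup1 ++ relGroup2 ++ relGroup3 ++ relGroup4 ++ relGroup5 ++ relGroup6 ++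
    relGroup7 ++ relGroup8 ++ relGroup9 ++ relGroup10 ++ relGroup11 ++ relGroup12

theorem planes_all : ∀ s < wExp, planesOK Fi24Net.nets relAll s = true := by
  intro s hs
  simp only [relAll, planesOK, List.all_append, Bool.and_eq_true]
  have h : s < 19 := hs
  interval_cases s
  · exact ⟨⟨⟨⟨⟨⟨⟨⟨⟨⟨⟨⟨rel0_0, rel1_0⟩, rel2_0⟩, rel3_0⟩, rel4_0⟩, rel5_0⟩, rel6_0⟩, rel7_0⟩, rel8_0⟩, rel9_0⟩, rel10_0⟩, rel11_0⟩, rel12_0⟩
  · exact ⟨⟨⟨⟨⟨⟨⟨⟨⟨⟨⟨⟨rel0_1, rel1_1⟩, rel2_1⟩, rel3_1⟩, rel4_1⟩, rel5_1⟩, rel6_1⟩, rel7_1⟩, rel8_1⟩, rel9_1⟩, rel10_1⟩, rel11_1⟩, rel12_1⟩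
  · exact ⟨⟨⟨⟨⟨⟨⟨⟨⟨⟨⟨⟨rel0_2, rel1_2⟩, rel2_2⟩, rel3_2⟩, rel4_2⟩, rel5_2⟩, rel6_2⟩, rel7_2⟩, rel8_2⟩, rel9_2⟩, rel10_2⟩, rel11_2⟩, rel12_2⟩
  · exact ⟨⟨⟨⟨⟨⟨⟨⟨⟨⟨⟨⟨rel0_3, rel1_3⟩, rel2_3⟩, rel3_3⟩, rel4_3⟩, rel5_3⟩, rel6_3⟩, rel7_3⟩, rel8_3⟩, rel9_3⟩, rel10_3⟩, rel11_3⟩, rel12_3⟩
  · exact ⟨⟨⟨⟨⟨⟨⟨⟨⟨⟨⟨⟨rel0_4, rel1_4⟩, rel2_4⟩, rel3_4⟩, rel4_4⟩, rel5_4⟩, rel6_4⟩, rel7_4⟩, rel8_4⟩, rel9_4⟩, rel10_4⟩, rel11_4⟩, rel12_4⟩
  · exact ⟨⟨⟨⟨⟨⟨⟨⟨⟨⟨⟨⟨rel0_5, rel1_5⟩, rel2_5⟩, rel3_5⟩, rel4_5⟩, rel5_5⟩, rel6_5⟩, rel7_5⟩, rel8_5⟩, rel9_5⟩, rel10_5⟩, rel11_5⟩, rel12_5⟩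
  · exact ⟨⟨⟨⟨⟨⟨⟨⟨⟨⟨⟨⟨rel0_6, rel1_6⟩, rel2_6⟩, rel3_6⟩, rel4_6⟩, rel5_6⟩, rel6_6⟩, rel7_6⟩, rel8_6⟩, rel9_6⟩, rel10_6⟩, rel11_6⟩, rel12_6⟩
  · exact ⟨⟨⟨⟨⟨⟨⟨⟨⟨⟨⟨⟨rel0_7, rel1_7⟩, rel2_7⟩, rel3_7⟩, rel4_7⟩, rel5_7⟩, rel6_7⟩, rel7_7⟩, rel8_7⟩, rel9_7⟩, rel10_7⟩, rel11_7⟩, rel12_7⟩
  · exact ⟨⟨⟨⟨⟨⟨⟨⟨⟨⟨⟨⟨rel0_8, rel1_8⟩, rel2_8⟩, rel3_8⟩, rel4_8⟩, rel5_8⟩, rel6_8⟩, rel7_8⟩, rel8_8⟩, rel9_8⟩, rel10_8⟩, rel11_8⟩, rel12_8⟩
  · exact ⟨⟨⟨⟨⟨⟨⟨⟨⟨⟨⟨⟨rel0_9, rel1_9⟩, rel2_9⟩, rel3_9⟩, rel4_9⟩, rel5_9⟩, rel6_9⟩, rel7_9⟩, rel8_9⟩, rel9_9⟩, rel10_9⟩, rel11_9⟩, rel12_9⟩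
  · exact ⟨⟨⟨⟨⟨⟨⟨⟨⟨⟨⟨⟨rel0_10, rel1_10⟩, rel2_10⟩, rel3_10⟩, rel4_10⟩, rel5_10⟩, rel6_10⟩, rel7_10⟩, rel8_10⟩, rel9_10⟩, rel10_10⟩, rel11_10⟩, rel12_10⟩
  · exact ⟨⟨⟨⟨⟨⟨⟨⟨⟨⟨⟨⟨rel0_11, rel1_11⟩, rel2_11⟩, rel3_11⟩, rel4_11⟩, rel5_11⟩, rel6_11⟩, rel7_11⟩, rel8_11⟩, rel9_11⟩, rel10_11⟩, rel11_11⟩, rel12_11⟩
  · exact ⟨⟨⟨⟨⟨⟨⟨⟨⟨⟨⟨⟨rel0_12, rel1_12⟩, rel2_12⟩, rel3_12⟩, rel4_12⟩, rel5_12⟩, rel6_12⟩, rel7_12⟩, rel8_12⟩, rel9_12⟩, rel10_12⟩, rel11_12⟩, rel12_12⟩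
  · exact ⟨⟨⟨⟨⟨⟨⟨⟨⟨⟨⟨⟨rel0_13, rel1_13⟩, rel2_13⟩, rel3_13⟩, rel4_13⟩, rel5_13⟩, rel6_13⟩, rel7_13⟩, rel8_13⟩, rel9_13⟩, rel10_13⟩, rel11_13⟩, rel12_13⟩
  · exact ⟨⟨⟨⟨⟨⟨⟨⟨⟨⟨⟨⟨rel0_14, rel1_14⟩, rel2_14⟩, rel3_14⟩, rel4_14⟩, rel5_14⟩, rel6_14⟩, rel7_14⟩, rel8_14⟩, rel9_14⟩, rel10_14⟩, rel11_14⟩, rel12_14⟩
  · exact ⟨⟨⟨⟨⟨⟨⟨⟨⟨⟨⟨⟨rel0_15, rel1_15⟩, rel2_15⟩, rel3_15⟩, rel4_15⟩, rel5_15⟩, rel6_15⟩, rel7_15⟩, rel8_15⟩, rel9_15⟩, rel10_15⟩, rel11_15⟩, rel12_15⟩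
  · exact ⟨⟨⟨⟨⟨⟨⟨⟨⟨⟨⟨⟨rel0_16, rel1_16⟩, rel2_16⟩, rel3_16⟩, rel4_16⟩, rel5_16⟩, rel6_16⟩, rel7_16⟩, rel8_16⟩, rel9_16⟩, rel10_16⟩, rel11_16⟩, rel12_16⟩
  · exact ⟨⟨⟨⟨⟨⟨⟨⟨⟨⟨⟨⟨rel0_17, rel1_17⟩, rel2_17⟩, rel3_17⟩, rel4_17⟩, rel5_17⟩, rel6_17⟩, rel7_17⟩, rel8_17⟩, rel9_17⟩, rel10_17⟩, rel11_17⟩, rel12_17⟩
  · exact ⟨⟨⟨⟨⟨⟨⟨⟨⟨⟨⟨⟨rel0_18, rel1_18⟩, rel2_18⟩, rel3_18⟩, rel4_18⟩, rel5_18⟩, rel6_18⟩, rel7_18⟩, rel8_18⟩, rel9_18⟩, rel10_18⟩, rel11_18⟩, rel12_18⟩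

theorem perm_rel : ∀ r ∈ relAll, wordVal (bperm Fi24Net.nets 306936) r = 1 :=
  wordVal_bperm_eq_one lens_ok range_ok (by decide) (by decide +kernel) planes_all

/-- The generators as permutations. -/
noncomputable def pG (g : ℕ) : Equiv.Perm (Fin 306936) :=
  if g < 12 then bperm Fi24Net.nets 306936 g else 1

theorem bperm_mul_self {g : ℕ} (hg : g < 12) :
    bperm Fi24Net.nets 306936 g * bperm Fi24Net.nets 306936 g = 1 := by
  have h := perm_rel [g, g] ((show ∀ g < 12, [g, g] ∈ relAll by decide +kernel) g hg)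
  simpa [wordVal, gen, show g ≠ eps by simp only [eps]; omega] using h

theorem pG_mul_self (g : ℕ) : pG g * pG g = 1 := by
  unfold pG
  split
  · next hg => exact bperm_mul_self hg
  · exact one_mul 1

theorem wordVal_pG : ∀ {w : List ℕ}, (∀ g ∈ w, g < 12) →
    wordVal pG w = wordVal (bperm Fi24Net.nets 306936) w
  | [], _ => rfl
  | g :: w, h => by
    have hg : g < 12 := h g (by simp)
    rw [wordVal, wordVal, wordVal_pG fun a ha => h a (by simp [ha]), gen, gen,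
      if_neg (by simp only [eps]; omega), if_neg (by simp only [eps]; omega), pG, if_pos hg]

/-- A derived generator is the inverse of its word. -/
theorem derived {w : List ℕ} {d : ℕ} (h : wordVal (bperm Fi24Net.nets 306936) (w ++ [d]) = 1)
    (hd : d ≠ eps) : bperm Fi24Net.nets 306936 d = (wordVal (bperm Fi24Net.nets 306936) w)⁻¹ := by
  refine eq_inv_of_mul_eq_one_left ?_
  simpa [wordVal_append, wordVal, gen, hd] using h

theorem wordVal_single {d : ℕ} (hd : d ≠ eps) (m : ℕ) :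
    wordVal (bperm Fi24Net.nets 306936) (List.replicate m d) =
      (bperm Fi24Net.nets 306936 d) ^ m := by
  induction m with
  | zero => simp [wordVal]
  | succ m ih => simp [List.replicate_succ, wordVal, gen, hd, ih, pow_succ]

theorem z_perm : wordVal pG zWord = 1 := by
  rw [wordVal_pG (by decide +kernel), zWord, wordVal_pow]
  have h1 := derived (perm_rel _ (show uWord ++ [12] ∈ relAll by decide +kernel)) (by decide)
  have h2 := perm_rel _ (show List.replicate 17 12 ∈ relAll by decide +kernel)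
  rw [wordVal_single (by decide), h1, inv_pow, inv_eq_one] at h2
  exact h2

theorem l_perm : wordVal pG lWord = 1 := by
  rw [wordVal_pG (by decide +kernel), lWord, wordVal_append, wordVal_pow]
  have h1 := derived (perm_rel _ (show e7Word ++ [13] ∈ relAll by decide +kernel)) (by decide)
  have h2 := perm_rel _ (show List.replicate 9 13 ++ [0] ∈ relAll by decide +kernel)
  rw [wordVal_append, wordVal_single (by decide), h1, inv_pow, mul_inv_eq_one] at h2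
  rw [← h2]
  simpa [wordVal, gen, eps] using bperm_mul_self (g := 0) (by decide)

theorem spider_perm : wordVal pG (List.replicate 10 spWord).flatten = 1 := by
  rw [wordVal_pG (by decide +kernel), wordVal_pow]
  have h1 := derived (perm_rel _ (show spWord ++ [14] ∈ relAll by decide +kernel)) (by decide)
  have h2 := perm_rel _ (show List.replicate 10 14 ∈ relAll by decide +kernel)
  rw [wordVal_single (by decide), h1, inv_pow, inv_eq_one] at h2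
  exact h2

theorem pairs_ok : (numbering.pairs.all fun r => (r.all fun g => Nat.blt g 12) &&
    (pairWords.any fun q => beqW q r) || isShift pairWords r ||
    (match r with | [a, b] => Nat.beq a b && Nat.blt a 12 | _ => false)) = true := by
  decide +kernel

theorem pG_rel : ∀ r ∈ numbering.pairs ++ extraWords, wordVal pG r = 1 := by
  intro r hr
  rcases List.mem_append.1 hr with hr | hr
  · have hpair : ∀ q ∈ pairWords, wordVal pG q = 1 := fun q hq => by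
      rw [wordVal_pG ((show ∀ q ∈ pairWords, ∀ g ∈ q, g < 12 by decide +kernel) q hq)]
      exact perm_rel q ((show ∀ q ∈ pairWords, q ∈ relAll by decide +kernel) q hq)
    exact shift_eq_one pG_mul_self (R0 := pairWords) (R := numbering.pairs) (by decide +kernel)
      hpair r hr
  · rcases List.mem_cons.1 hr with rfl | hr
    · exact l_perm
    · rw [List.mem_singleton] at hr
      subst hr
      exact z_perm

theorem exists_f : ∃ f : Spor.Fi24 →* Equiv.Perm (Fin 306936), ∀ g < 12, f (x g) = pG g := by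
  have h := numbering.lift_eq_one (by decide) pG (map_extra _ pG_mul_self) pG_rel
  refine ⟨PresentedGroup.toGroup h, fun g hg => ?_⟩
  rw [x, Numbering.gens, if_pos (show g < numbering.k from hg), PresentedGroup.toGroup.of,
    numbering.num_letter g hg]

/-- The representation. -/
noncomputable def f : Spor.Fi24 →* Equiv.Perm (Fin 306936) := exists_f.choose

theorem f_gen {g : ℕ} (hg : g < 12) : f (x g) = bperm Fi24Net.nets 306936 g := by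
  rw [f, exists_f.choose_spec g hg, pG, if_pos hg]

theorem f_word : ∀ {w : List ℕ}, (∀ g ∈ w, g < 12) →
    f (wordVal x w) = wordVal (bperm Fi24Net.nets 306936) w
  | [], _ => map_one f
  | g :: w, h => by
    have hg : g < 12 := h g (by simp)
    rw [wordVal, wordVal, map_mul, f_word fun a ha => h a (by simp [ha]), gen, gen,
      if_neg (by simp only [eps]; omega), if_neg (by simp only [eps]; omega), f_gen hg]

theorem inv_letters {U : List (List ℕ)} (h : lettersOK 12 U = true) : ∀ v ∈ U, ∀ g ∈ v,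
    gen (bperm Fi24Net.nets 306936) g * gen (bperm Fi24Net.nets 306936) g = 1 := fun v hv g hg => by
  have hlt := lettersOK_mem h hv g hg
  rw [gen, if_neg (by simp only [eps]; omega)]
  exact bperm_mul_self hlt

end Cfsg.Lib.BigPerm.Fi24
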