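import Cfsg.Agent.Lib.BigPerm.Fi24.Main
import Cfsg.Agent.S1691

/-!
# The derived subgroup of the presented Fi24 is simple
-/

set_option autoImplicit false
set_option maxRecDepth 100000
set_option maxHeartbeats 4000000

open scoped Pointwise

namespace Cfsg.Lib.BigPerm.Fi24

open Cfsg.Lib.CosetEnum Cfsg.Lib.BigPerm.Fi24Cert Cfsg.Spor

/-- The derived subgroup. -/
abbrev D24 : Subgroup Spor.Fi24 := commutator Spor.Fi24

theorem x_not_mem {g : ℕ} (hg : g < 12) : x g ∉ D24 := by
  intro h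
  have hhom : ∃ ε : Spor.Fi24 →* ℤˣ, ∀ g < 12, ε (x g) = -1 := by
    have hrel : ∀ r ∈ numbering.pairs ++ extraWords, wordVal (fun _ => (-1 : ℤˣ)) r = 1 := by
      decide +kernel
    have hl := numbering.lift_eq_one (by decide) (fun _ => (-1 : ℤˣ)) (map_extra (fun _ => (-1 : ℤˣ)) (fun _ => by decide)) hrel
    refine ⟨PresentedGroup.toGroup hl, fun g hg => ?_⟩
    rw [x, Numbering.gens, if_pos (show g < numbering.k from hg), PresentedGroup.toGroup.of]
  obtain ⟨ε, hε⟩ := hhom
  have h1 : ε (x g) = 1 := (Abelianization.commutator_subset_ker ε) h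
  rw [hε g hg] at h1
  exact absurd h1 (by decide)

theorem mem_D24_mul {a : Spor.Fi24} (ha : a ∉ D24) {g : ℕ} (hg : g < 12) : a * x g ∈ D24 :=
  (Subgroup.mul_mem_iff_of_index_two Cfsg.Agent.S1691.result).2
    (iff_of_false ha (x_not_mem hg))

/-- The large subgroup in the derived subgroup. -/
abbrev Hd : Subgroup Hsub := D24.subgroupOf Hsub

theorem Hd_card : Nat.card Hd = 4089470473293004800 := by
  have hidx : Hd.index = 2 := by
    have h2 := Cfsg.Agent.S1691.result
    rw [Subgroup.index_eq_two_iff] at h2 ⊢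
    obtain ⟨a, -⟩ := h2
    refine ⟨lH, fun b => ?_⟩
    simp only [Subgroup.mem_subgroupOf, Subgroup.coe_mul, lH]
    by_cases hb : (b : Spor.Fi24) ∈ D24
    · exact Or.inr ⟨hb, fun h => x_not_mem (g := 0) (by decide) ((D24.mul_mem_cancel_left hb).1 h)⟩
    · exact Or.inl ⟨mem_D24_mul hb (by decide), hb⟩
  have := Subgroup.card_mul_index Hd
  rw [hidx, h_exact] at this
  omega

theorem Hd_iso : Nonempty (Hd ≃* Cfsg.Spor.Fi23) := by
  have hn : Zl.Normal := h_quot.1
  obtain ⟨ψ, hψ, -⟩ := @h_quot.2 hn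
  have := h_card.1
  have h23 := Cfsg.Agent.S1697.result.2
  have : Finite Cfsg.Spor.Fi23 := Nat.finite_of_card_ne_zero (by rw [h23]; decide)
  let χ : Hd →* Hsub ⧸ Zl := (QuotientGroup.mk' Zl).comp Hd.subtype
  have hinj : Function.Injective χ := by
    rw [injective_iff_map_eq_one]
    rintro ⟨a, ha⟩ h1
    have h2 : a ∈ Zl := (QuotientGroup.eq_one_iff a).1 h1
    obtain ⟨m, hm⟩ := Subgroup.mem_zpowers_iff.1 h2
    have hl2 : (lH : Hsub) ^ (2 : ℤ) = 1 := Subtype.ext (by
      show x 0 ^ (2 : ℤ) = 1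
      rw [zpow_two, x_mul_self])
    rcases Int.even_or_odd' m with ⟨r, rfl | rfl⟩
    · rw [zpow_mul, hl2, one_zpow] at hm
      exact Subtype.ext hm.symm
    · rw [zpow_add, zpow_mul, hl2, one_zpow, one_mul, zpow_one] at hm
      subst hm
      exact absurd ha (x_not_mem (g := 0) (by decide))
  have hle : Nat.card (Hsub ⧸ Zl) ≤ Nat.card Cfsg.Spor.Fi23 := Nat.card_le_card_of_surjective ψ hψ
  have : Finite (Hsub ⧸ Zl) := Finite.of_surjective ψ hψ
  have hge : Nat.card Hd ≤ Nat.card (Hsub ⧸ Zl) := Nat.card_le_card_of_injective χ hinj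
  rw [Hd_card, ← h23] at hge
  have bψ := (Nat.bijective_iff_surjective_and_card ψ).2 ⟨hψ, le_antisymm hge hle⟩
  have bχ := (Nat.bijective_iff_injective_and_card χ).2
    ⟨hinj, le_antisymm (Nat.card_le_card_of_injective χ hinj) (hle.trans_eq (by rw [h23, Hd_card]))⟩
  exact ⟨(MulEquiv.ofBijective χ bχ).trans (MulEquiv.ofBijective ψ bψ).symm⟩

theorem orbit_sizes : (MulAction.orbit Hsub q1).ncard = 275264 ∧
    (MulAction.orbit Hsub qw).ncard = 31671 := by
  have h : (Set.univ : Set Cosets).ncard = 306936 := by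
    rw [Set.ncard_univ, ← Subgroup.index_eq_card, index_Hsub]
  rw [← X_univ, X] at h
  have h1 := Set.ncard_insert_le q0 (MulAction.orbit Hsub q1 ∪ MulAction.orbit Hsub qw)
  have h2 := Set.ncard_union_le (MulAction.orbit Hsub q1) (MulAction.orbit Hsub qw)
  have := orbit1.2
  have := orbit2.2
  omega

theorem hd_orbit {q : Cosets} {g : ℕ} (hg : g < 12) (hgH : x g ∈ Hsub) (hfix : x g • q = q)
    {r : Cosets} (hr : r ∈ MulAction.orbit Hsub q) : ∃ a ∈ D24, a ∈ Hsub ∧ a • q = r := by
  obtain ⟨⟨a, ha⟩, rfl⟩ := hr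
  by_cases h : a ∈ D24
  · exact ⟨a, h, ha, rfl⟩
  · exact ⟨a * x g, mem_D24_mul h hg, mul_mem ha hgH, by rw [mul_smul, hfix]; rfl⟩

theorem isFi24' : Cfsg.IsFi24' Cfsg.Spor.Fi24' := by
  have hfin := finite_Fi24
  have hidx := Cfsg.Agent.S1691.result
  have hcard : Nat.card D24 = 1255205709190661721292800 := by
    have := Subgroup.card_mul_index D24
    rw [hidx, card_Fi24] at this
    omega
  refine ⟨?_, hcard⟩
  have : Nontrivial D24 := Finite.one_lt_card_iff_nontrivial.1 (by rw [hcard]; decide)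
  obtain ⟨e⟩ := Hd_iso
  have hsimple : IsSimpleGroup Hd := by
    have := Cfsg.Agent.S1697.result.1
    exact e.isSimpleGroup_congr.2 this
  have hfaith : FaithfulSMul D24 Cosets := ⟨fun {a b} h => Subtype.ext (f_injective (by
    refine Equiv.ext fun i => ?_
    obtain ⟨q, rfl⟩ := π_bijective.2 i
    rw [← π_smul, ← π_smul]
    exact congrArg π (h q)))⟩
  have hx0 : x 0 ∈ Hsub := l_mem
  have htrans : MulAction.IsPretransitive D24 Cosets := by
    refine (MulAction.isPretransitive_iff_base q0).2 fun q => ?_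
    obtain ⟨a, rfl⟩ := QuotientGroup.mk_surjective q
    by_cases h : a ∈ D24
    · exact ⟨⟨a, h⟩, smul_q0 a⟩
    · refine ⟨⟨a * x 0, mem_D24_mul h (by decide)⟩, ?_⟩
      show (a * x 0) • q0 = _
      rw [mul_smul, fix_q0 hx0, smul_q0]
  have h3 : x 3 ∈ Hsub ∧ x 3 • q1 = q1 := by
    have hB : x 3 ∈ Bsub := by
      have := mem_subW_of_over (show overOK b80Words [3] = true by decide +kernel)
      rwa [wordVal_one (by decide)] at this
    exact ⟨B_le hB, B_fix_q1 hB⟩
  have h4 : x 4 ∈ Hsub ∧ x 4 • qw = qw := by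
    have hs : x 4 ∈ subW s20Words := by
      have := mem_subW_of_over (show overOK s20Words [4] = true by decide +kernel)
      rwa [wordVal_one (by decide)] at this
    have hH : x 4 ∈ Hsub := by
      have := mem_subW_of_over (show overOK bigWords [4] = true by decide +kernel)
      rwa [wordVal_one (by decide)] at this
    exact ⟨hH, s2_fix _ hs⟩
  have hstab : ∀ a : D24, a • q0 = q0 ↔ (a : Spor.Fi24) ∈ Hsub := fun a => by
    refine ⟨fun h => ?_, fun h => fix_q0 h⟩
    have h' : ((a : Spor.Fi24) : Cosets) = q0 := (smul_q0 _).symm.trans h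
    have := QuotientGroup.eq.1 h'
    rwa [mul_one, inv_mem_iff] at this
  have hO : ∀ q : Cosets, q = q0 ∨ q ∈ MulAction.orbit Hsub q1 ∨ q ∈ MulAction.orbit Hsub qw :=
    fun q => by
      have : q ∈ X := by rw [X_univ]; trivial
      simpa [X] using this
  refine isSimple_of_forall_normal fun M hM hne => ?_
  have hM' : MulAction.orbit M q0 = Set.univ := by
    refine normal_transitive (G := D24) q0 M hne fun Δ h0 hinv hdvd => ?_
    have hcl : ∀ {q r : Cosets} {g : ℕ}, g < 12 → x g ∈ Hsub ∧ x g • q = q → q ∈ Δ →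
        r ∈ MulAction.orbit Hsub q → r ∈ Δ := by
      intro q r g hg hfix hq hr
      obtain ⟨a, ha, haH, rfl⟩ := hd_orbit hg hfix.1 hfix.2 hr
      exact hinv ⟨a, ha⟩ ((hstab _).2 haH) q hq
    have hcl1 : ∀ r ∈ MulAction.orbit Hsub q1, r ∈ Δ → MulAction.orbit Hsub q1 ⊆ Δ := by
      intro r hr hrΔ z hz
      obtain ⟨a, ha, haH, h⟩ := hd_orbit (by decide) h3.1 h3.2 hr
      have hq : q1 ∈ Δ := by
        have := hinv ⟨a⁻¹, inv_mem ha⟩ ((hstab _).2 (inv_mem haH)) r hrΔ
        rwa [show (⟨a⁻¹, inv_mem ha⟩ : D24) • r = q1 from by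
          show a⁻¹ • r = q1
          rw [← h, inv_smul_smul]] at this
      exact hcl (by decide) h3 hq hz
    have hcl2 : ∀ r ∈ MulAction.orbit Hsub qw, r ∈ Δ → MulAction.orbit Hsub qw ⊆ Δ := by
      intro r hr hrΔ z hz
      obtain ⟨a, ha, haH, h⟩ := hd_orbit (by decide) h4.1 h4.2 hr
      have hq : qw ∈ Δ := by
        have := hinv ⟨a⁻¹, inv_mem ha⟩ ((hstab _).2 (inv_mem haH)) r hrΔ
        rwa [show (⟨a⁻¹, inv_mem ha⟩ : D24) • r = qw from by
          show a⁻¹ • r = qw
          rw [← h, inv_smul_smul]] at this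
      exact hcl (by decide) h4 hq hz
    have hfinC : Finite Cosets := Finite.of_equiv _ (Equiv.ofBijective π π_bijective).symm
    have hN : Nat.card Cosets = 306936 :=
      (Nat.card_eq_of_bijective π π_bijective).trans (Nat.card_fin _)
    rw [hN] at hdvd
    obtain ⟨s1, s2⟩ := orbit_sizes
    by_cases ha : ∃ r ∈ MulAction.orbit Hsub q1, r ∈ Δ <;>
      by_cases hb : ∃ r ∈ MulAction.orbit Hsub qw, r ∈ Δ
    · right
      obtain ⟨r, hr, hrΔ⟩ := ha
      obtain ⟨r', hr', hrΔ'⟩ := hb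
      refine Set.eq_univ_of_forall fun q => ?_
      rcases hO q with rfl | h | h
      · exact h0
      · exact hcl1 r hr hrΔ h
      · exact hcl2 r' hr' hrΔ' h
    · obtain ⟨r, hr, hrΔ⟩ := ha
      push Not at hb
      have hΔ : Δ = insert q0 (MulAction.orbit Hsub q1) := by
        refine Set.Subset.antisymm (fun q hq => ?_) (Set.insert_subset h0 (hcl1 r hr hrΔ))
        rcases hO q with rfl | h | h
        · exact Or.inl rfl
        · exact Or.inr h
        · exact absurd hq (hb q h)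
      have hle := Set.ncard_insert_le q0 (MulAction.orbit Hsub q1)
      have hge := Set.ncard_le_ncard (show MulAction.orbit Hsub q1 ⊆ Δ from hcl1 r hr hrΔ)
        (Set.toFinite _)
      rw [← hΔ, s1] at hle
      rw [s1] at hge
      interval_cases h : Δ.ncard <;> exact absurd hdvd (by decide +kernel)
    · obtain ⟨r, hr, hrΔ⟩ := hb
      push Not at ha
      have hΔ : Δ = insert q0 (MulAction.orbit Hsub qw) := by
        refine Set.Subset.antisymm (fun q hq => ?_) (Set.insert_subset h0 (hcl2 r hr hrΔ))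
        rcases hO q with rfl | h | h
        · exact Or.inl rfl
        · exact absurd hq (ha q h)
        · exact Or.inr h
      have hle := Set.ncard_insert_le q0 (MulAction.orbit Hsub qw)
      have hge := Set.ncard_le_ncard (show MulAction.orbit Hsub qw ⊆ Δ from hcl2 r hr hrΔ)
        (Set.toFinite _)
      rw [← hΔ, s2] at hle
      rw [s2] at hge
      interval_cases h : Δ.ncard <;> exact absurd hdvd (by decide +kernel)
    · left
      push Not at ha hb
      refine Set.eq_singleton_iff_unique_mem.2 ⟨h0, fun q hq => ?_⟩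
      rcases hO q with h | h | h
      · exact h
      · exact absurd hq (ha q h)
      · exact absurd hq (hb q h)
  -- the part of the normal subgroup in the point stabiliser
  let ι : Hd →* D24 :=
    { toFun := fun a => ⟨a.1.1, a.2⟩
      map_one' := rfl
      map_mul' := fun _ _ => rfl }
  rcases (hM.comap ι).eq_bot_or_eq_top with hb | ht
  · exfalso
    have hfinC : Finite Cosets := Finite.of_equiv _ (Equiv.ofBijective π π_bijective).symm
    have hfree : ∀ m ∈ M, m • q0 = q0 → m = 1 := by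
      intro m hm hmq
      have hmH := (hstab m).1 hmq
      have : (⟨⟨m.1, hmH⟩, m.2⟩ : Hd) ∈ M.comap ι := hm
      rw [hb, Subgroup.mem_bot] at this
      exact Subtype.ext (congrArg (fun z : Hd => z.1.1) this)
    have hcardM : Nat.card M = 306936 := by
      have h := MulAction.index_stabilizer M q0
      rw [hM', Set.ncard_univ, ← Subgroup.index_eq_card, index_Hsub] at h
      rw [← h, show MulAction.stabilizer M q0 = ⊥ from ?_, Subgroup.index_bot]
      rw [Subgroup.eq_bot_iff_forall]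
      exact fun m hm => Subtype.ext (hfree m.1 m.2 hm)
    have hconj : ∀ {q r : Cosets} {g : ℕ}, g < 12 → x g ∈ Hsub ∧ x g • q = q →
        r ∈ MulAction.orbit Hsub q → ∀ m m' : M, m • q0 = q → m' • q0 = r →
          orderOf m = orderOf m' := by
      intro q r g hg hfix hr m m' hmq hmr
      obtain ⟨a, ha, haH, h⟩ := hd_orbit hg hfix.1 hfix.2 hr
      let a' : D24 := ⟨a, ha⟩
      have hc : a' * m.1 * a'⁻¹ ∈ M := hM.conj_mem _ m.2 _
      have he : a' * m.1 * a'⁻¹ = m'.1 := by
        have h1 : (a' * m.1 * a'⁻¹) • q0 = m'.1 • q0 := by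
          rw [mul_smul, mul_smul, (hstab a'⁻¹).2 (inv_mem haH)]
          exact (congrArg (a' • ·) hmq).trans (h.trans hmr.symm)
        refine (inv_mul_eq_one.1 (hfree _ (mul_mem (inv_mem m'.2) hc) ?_)).symm
        rw [mul_smul, h1, inv_smul_smul]
      rw [← Subgroup.orderOf_coe m, ← Subgroup.orderOf_coe m', ← he]
      exact (MulEquiv.orderOf_eq (MulAut.conj a') m.1).symm
    have hp : ∀ p : ℕ, p.Prime → p ∣ 306936 → ∃ m : M, orderOf m = p ∧
        (m • q0 ∈ MulAction.orbit Hsub q1 ∨ m • q0 ∈ MulAction.orbit Hsub qw) := by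
      intro p hp hd
      have := Fact.mk hp
      obtain ⟨m, hm⟩ := exists_prime_orderOf_dvd_card' p (hcardM.symm ▸ hd)
      refine ⟨m, hm, (hO _).resolve_left fun h => hp.one_lt.ne' ?_⟩
      rw [← hm, show m = 1 from Subtype.ext (hfree m.1 m.2 h), orderOf_one]
    have hsame : ∀ m m' : M, (m • q0 ∈ MulAction.orbit Hsub q1 ∧
        m' • q0 ∈ MulAction.orbit Hsub q1) ∨ (m • q0 ∈ MulAction.orbit Hsub qw ∧
        m' • q0 ∈ MulAction.orbit Hsub qw) → orderOf m = orderOf m' := by
      rintro m m' (⟨h1, h2⟩ | ⟨h1, h2⟩) <;>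
      · obtain ⟨m₀, hm₀⟩ : ∃ m₀ : M, m₀ • q0 = _ := hM'.symm ▸ Set.mem_univ _
        first
          | exact ((hconj (by decide) h3 h1 m₀ m hm₀ rfl).symm.trans (hconj (by decide) h3 h2 m₀ m' hm₀ rfl))
          | exact ((hconj (by decide) h4 h1 m₀ m hm₀ rfl).symm.trans (hconj (by decide) h4 h2 m₀ m' hm₀ rfl))
    obtain ⟨a, ha, ha'⟩ := hp 2 Nat.prime_two (by decide)
    obtain ⟨b, hb', hb''⟩ := hp 3 Nat.prime_three (by decide)
    obtain ⟨c, hc, hc'⟩ := hp 7 (by decide) (by decide)
    rcases ha' with ha' | ha' <;> rcases hb'' with hb'' | hb'' <;> rcases hc' with hc' | hc'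
    all_goals
      first
        | (have := hsame a b (Or.inl ⟨ha', hb''⟩); omega)
        | (have := hsame a b (Or.inr ⟨ha', hb''⟩); omega)
        | (have := hsame a c (Or.inl ⟨ha', hc'⟩); omega)
        | (have := hsame a c (Or.inr ⟨ha', hc'⟩); omega)
        | (have := hsame b c (Or.inl ⟨hb'', hc'⟩); omega)
        | (have := hsame b c (Or.inr ⟨hb'', hc'⟩); omega)
  · rw [eq_top_iff]
    intro a _
    obtain ⟨⟨m, hm⟩, hmq⟩ : a • q0 ∈ MulAction.orbit M q0 := hM'.symm ▸ Set.mem_univ _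
    replace hmq : m • q0 = a • q0 := hmq
    have hH : (m⁻¹ * a : D24).1 ∈ Hsub := (hstab _).1 (by rw [mul_smul, ← hmq, inv_smul_smul])
    have hmem : (⟨⟨(m⁻¹ * a : D24).1, hH⟩, (m⁻¹ * a : D24).2⟩ : Hd) ∈ M.comap ι := ht ▸ trivial
    have : m * (m⁻¹ * a) ∈ M := mul_mem hm hmem
    rwa [mul_inv_cancel_left] at this

end Cfsg.Lib.BigPerm.Fi24
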