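import Mathlib
import Cfsg.Agent.S1697
import Cfsg.Agent.Lib.CosetEnum.Groups.Fi23
import Cfsg.Agent.Lib.CosetEnum.Order
import Cfsg.Agent.Lib.BigPerm.Fi24.Orders
import Cfsg.Agent.Lib.CosetEnum.Fi24Y0.Valid
import Cfsg.Agent.Lib.CosetEnum.Fi24Y1.Valid
import Cfsg.Agent.Lib.CosetEnum.Fi24Y2.Valid
import Cfsg.Agent.Lib.CosetEnum.Fi24Y3.Valid
import Cfsg.Agent.Lib.CosetEnum.Fi24Y4.Valid
import Cfsg.Agent.Lib.CosetEnum.Fi24Y5.Valid
import Cfsg.Agent.Lib.CosetEnum.Fi24Y6.Valid
import Cfsg.Agent.Lib.CosetEnum.Fi24Y7.Valid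
import Cfsg.Agent.Lib.CosetEnum.Fi24Y8.Valid
import Cfsg.Agent.Lib.CosetEnum.Fi24Y9.Valid

/-!
# Subgroups of the presented Fi24: orders and injectivity of the representation

The subgroup on the generators other than `k` is shown to be `2 × Fi23` acting faithfully, and the
centraliser of `k` in it is located in the representation.
-/

set_option autoImplicit false
set_option maxRecDepth 100000
set_option maxHeartbeats 4000000

open scoped Pointwise

namespace Cfsg.Lib.BigPerm.Fi24

open Cfsg.Lib.CosetEnum Cfsg.Lib.BigPerm.Fi24Cert Cfsg.Spor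

local notation "nets" => Fi24Net.nets
local notation "P" => bperm Fi24Net.nets 306936

/-- The subgroup generated by some words. -/
def subW (U : List (List ℕ)) : Subgroup Spor.Fi24 := Subgroup.closure (wordVal x '' {u | u ∈ U})

theorem wordVal_mem_subW {U : List (List ℕ)} {u : List ℕ} (hu : u ∈ U) : wordVal x u ∈ subW U :=
  Subgroup.subset_closure ⟨u, hu, rfl⟩

theorem wordVal_one {g : ℕ} (hg : g ≠ eps) : wordVal x [g] = x g := by simp [wordVal, gen, hg]

theorem mem_of_letters {U : List (List ℕ)} {K : Subgroup Spor.Fi24}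
    (hK : ∀ u ∈ U, wordVal x u ∈ K) : ∀ {w : List ℕ}, (∀ g ∈ w, [g] ∈ U ∧ g < 12) →
      wordVal x w ∈ K
  | [], _ => one_mem _
  | g :: w, h => by
    obtain ⟨hg, hg'⟩ := h g (by simp)
    rw [wordVal]
    refine mul_mem (mem_of_letters hK fun a ha => h a (by simp [ha])) ?_
    have hne : g ≠ eps := by simp only [eps]; omega
    have := hK _ hg
    rwa [wordVal_one hne, ← show gen x g = x g by simp [gen, hne]] at this

/-- All letters occur as one-letter words. -/
def overOK (U : List (List ℕ)) (w : List ℕ) : Bool :=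
  w.all fun g => Nat.blt g 12 && U.any (fun u => beqW u [g])

theorem mem_subW_of_over {U : List (List ℕ)} {w : List ℕ} (h : overOK U w = true) :
    wordVal x w ∈ subW U := by
  refine mem_of_letters (fun u hu => wordVal_mem_subW hu) fun g hg => ?_
  have h1 := List.all_eq_true.1 h g hg
  rw [Bool.and_eq_true, Nat.blt_eq] at h1
  obtain ⟨u, hu, hb⟩ := List.any_eq_true.1 h1.2
  exact ⟨beqW_eq hb ▸ hu, h1.1⟩

theorem subW_le {U V : List (List ℕ)} (h : (U.all fun u => overOK V u) = true) :
    subW U ≤ subW V := by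
  rw [subW, Subgroup.closure_le]
  rintro _ ⟨u, hu, rfl⟩
  exact mem_subW_of_over (List.all_eq_true.1 h u hu)

theorem map_subW {U : List (List ℕ)} (h : lettersOK 12 U = true) :
    (subW U).map f = wordsGroup nets 306936 U := by
  rw [subW, MonoidHom.map_closure, wordsGroup, Set.image_image]
  congr 1
  exact Set.image_congr fun u hu => f_word (lettersOK_mem h hu)

theorem inj_of_card {K : Subgroup Spor.Fi24} [Finite K] (h : Nat.card K ≤ Nat.card (K.map f)) :
    ∀ a ∈ K, f a = 1 → a = 1 := by
  intro a ha ha1
  let φ : K → K.map f := fun b => ⟨f b, ⟨b, b.2, rfl⟩⟩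
  have hs : Function.Surjective φ := by
    rintro ⟨_, b, hb, rfl⟩
    exact ⟨⟨b, hb⟩, rfl⟩
  have hbij := (Nat.bijective_iff_surjective_and_card φ).2
    ⟨hs, le_antisymm h (Nat.card_le_card_of_surjective φ hs)⟩
  exact congrArg Subtype.val (hbij.1 (a₁ := ⟨a, ha⟩) (a₂ := ⟨1, K.one_mem⟩)
    (Subtype.ext (by show f a = f 1; rw [ha1, map_one])))

/-- An orbit bound and a fixed subgroup bound the order, for any action. -/
theorem card_ge_of_action {M α : Type*} [Group M] [MulAction M α] {G K : Subgroup M} [Finite G]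
    (hKG : K ≤ G) {p : α} (hfix : ∀ g ∈ K, g • p = p) {s : Finset α}
    (hs : ∀ i ∈ s, ∃ g ∈ G, g • p = i) : s.card * Nat.card K ≤ Nat.card G := by
  rw [← Subgroup.card_mul_index (MulAction.stabilizer G p), MulAction.index_stabilizer,
    mul_comm s.card]
  refine Nat.mul_le_mul ?_ ?_
  · refine Nat.card_le_card_of_injective (fun a : K => (⟨⟨a.1, hKG a.2⟩, hfix a.1 a.2⟩ :
      MulAction.stabilizer G p)) fun a b hab => ?_
    exact Subtype.ext (congrArg (fun z : MulAction.stabilizer G p => (z.1 : M)) hab)
  · rw [← Set.ncard_coe_finset]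
    refine Set.ncard_le_ncard (fun i hi => ?_) (Set.finite_range _)
    obtain ⟨g, hg, rfl⟩ := hs i hi
    exact ⟨⟨g, hg⟩, rfl⟩

/-- The subgroup on `l, k, a, …, f, h, i`. -/
def P22 : Subgroup Spor.Fi24 := subW p220Words

/-- The subgroup on the generators other than `k`. -/
def Hsub : Subgroup Spor.Fi24 := subW bigWords

/-- The subgroup on `b, …, j`. -/
def Bsub : Subgroup Spor.Fi24 := subW b80Words

theorem closure_eq_subW {S : List ℕ} {U : List (List ℕ)}
    (h1 : (S.all fun g => overOK U [g]) = true)
    (h2 : (U.all fun u => u.all fun g => Nat.blt g 12 && S.contains g) = true) :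
    Subgroup.closure (x '' {g | g ∈ S}) = subW U := by
  refine le_antisymm ?_ ?_
  · rw [Subgroup.closure_le]
    rintro _ ⟨g, hg, rfl⟩
    have h3 := List.all_eq_true.1 h1 g hg
    have hlt : g < 12 := by
      simp only [overOK, List.all_cons, List.all_nil, Bool.and_true, Bool.and_eq_true,
        Nat.blt_eq] at h3
      exact h3.1
    have := mem_subW_of_over h3
    rwa [wordVal_one (by simp only [eps]; omega)] at this
  · rw [subW, Subgroup.closure_le]
    rintro _ ⟨u, hu, rfl⟩
    refine wordVal_mem x (S := S) fun g hg => ?_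
    have h3 := List.all_eq_true.1 (List.all_eq_true.1 h2 u hu) g hg
    simp only [Bool.and_eq_true, Nat.blt_eq, List.contains_iff_mem] at h3
    exact ⟨h3.2, by simp only [eps]; omega⟩

theorem p22_card : Finite P22 ∧ Nat.card P22 ≤ 9904359628800 := by
  have v9 : Fi24Y9.step.Valid (numbering.pairs ++ extraWords) := Fi24Y9.step_valid (by decide +kernel)
  have v8 : Fi24Y8.step.Valid (numbering.pairs ++ extraWords) := Fi24Y8.step_valid (by decide +kernel)
  have v7 : Fi24Y7.step.Valid (numbering.pairs ++ extraWords) := Fi24Y7.step_valid (by decide +kernel)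
  have v6 : Fi24Y6.step.Valid (numbering.pairs ++ extraWords) := Fi24Y6.step_valid (by decide +kernel)
  have v5 : Fi24Y5.step.Valid (numbering.pairs ++ extraWords) := Fi24Y5.step_valid (by decide +kernel)
  have v4 : Fi24Y4.step.Valid (numbering.pairs ++ extraWords) := Fi24Y4.step_valid (by decide +kernel)
  have v3 : Fi24Y3.step.Valid (numbering.pairs ++ extraWords) := Fi24Y3.step_valid (by decide +kernel)
  have v2 : Fi24Y2.step.Valid (numbering.pairs ++ extraWords) := Fi24Y2.step_valid (by decide +kernel)
  have v1 : Fi24Y1.step.Valid (numbering.pairs ++ extraWords) := Fi24Y1.step_valid (by decide +kernel)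
  have v0 : Fi24Y0.step.Valid (numbering.pairs ++ extraWords) := Fi24Y0.step_valid (by decide +kernel)
  have hx := x_mul_self
  have hrel := x_rel
  have c9 := v9.card_le hx hrel (K := ⊥) (by simp [Fi24Y9.step, Fi24Y9.subWords])
    inferInstance (m := 1) (by rw [Subgroup.card_bot])
  have c8 := v8.card_le hx hrel (inLetters_mem x (S := Fi24Y9.step.S) (by decide +kernel)) c9.1 c9.2
  have c7 := v7.card_le hx hrel (inLetters_mem x (S := Fi24Y8.step.S) (by decide +kernel)) c8.1 c8.2
  have c6 := v6.card_le hx hrel (inLetters_mem x (S := Fi24Y7.step.S) (by decide +kernel)) c7.1 c7.2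
  have c5 := v5.card_le hx hrel (inLetters_mem x (S := Fi24Y6.step.S) (by decide +kernel)) c6.1 c6.2
  have c4 := v4.card_le hx hrel (inLetters_mem x (S := Fi24Y5.step.S) (by decide +kernel)) c5.1 c5.2
  have c3 := v3.card_le hx hrel (inLetters_mem x (S := Fi24Y4.step.S) (by decide +kernel)) c4.1 c4.2
  have c2 := v2.card_le hx hrel (inLetters_mem x (S := Fi24Y3.step.S) (by decide +kernel)) c3.1 c3.2
  have c1 := v1.card_le hx hrel (inLetters_mem x (S := Fi24Y2.step.S) (by decide +kernel)) c2.1 c2.2
  have c0 := v0.card_le hx hrel (inLetters_mem x (S := Fi24Y1.step.S) (by decide +kernel)) c1.1 c1.2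
  have he : Subgroup.closure (x '' {g | g ∈ Fi24Y0.step.S}) = P22 :=
    closure_eq_subW (by decide +kernel) (by decide +kernel)
  rw [← he]
  exact ⟨c0.1, c0.2.trans (by decide +kernel)⟩

theorem inj22 : ∀ a ∈ P22, f a = 1 → a = 1 := by
  have := p22_card.1
  refine inj_of_card (p22_card.2.trans ?_)
  rw [P22, map_subW (by decide +kernel)]
  exact p22_order

theorem spider : wordVal x (List.replicate 10 spWord).flatten = 1 := by
  refine inj22 _ (mem_subW_of_over (by decide +kernel)) ?_
  rw [f_word (by decide +kernel), ← wordVal_pG (by decide +kernel)]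
  exact spider_perm

theorem l_eq : x 0 = ((wordVal x e7Word) ^ 9)⁻¹ := by
  have h := x_rel lWord (List.mem_append_right _ (by simp [extraWords]))
  rw [lWord, wordVal_append, wordVal_pow, wordVal_one (by decide)] at h
  exact eq_inv_of_mul_eq_one_left h

theorem commute_gens {a b : ℕ} (ha : a < 12) (hb : b < 12)
    (h : [b, a, b, a] ∈ numbering.pairs) : Commute (x a) (x b) := by
  have h1 := x_rel _ (List.mem_append_left _ h)
  simp only [wordVal, gen, show a ≠ eps by simp only [eps]; omega,
    show b ≠ eps by simp only [eps]; omega, if_false, one_mul] at h1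
  show x a * x b = x b * x a
  rw [mul_assoc] at h1
  rw [eq_inv_of_mul_eq_one_left h1, mul_inv_rev, inv_eq_of_mul_eq_one_left (x_mul_self a),
    inv_eq_of_mul_eq_one_left (x_mul_self b)]

theorem l_mem : x 0 ∈ Hsub := by
  have := mem_subW_of_over (show overOK bigWords [0] = true by decide +kernel)
  rwa [wordVal_one (by decide)] at this

theorem l_central {a : Spor.Fi24} (ha : a ∈ Hsub) : Commute (x 0) a := by
  refine Subgroup.mem_centralizer_singleton_iff.1 ((Subgroup.closure_le
    (K := Subgroup.centralizer ({x 0} : Set Spor.Fi24))).2 ?_ ha) |>.symm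
  rintro _ ⟨u, hu, rfl⟩
  obtain ⟨g, hg, rfl⟩ : ∃ g, (g < 12 ∧ (g = 0 ∨ [g, 0, g, 0] ∈ numbering.pairs)) ∧ [g] = u := by
    obtain ⟨g, hg, h⟩ := (show ∀ u ∈ bigWords, ∃ g ∈ [0, 2, 3, 4, 5, 6, 7, 8, 9, 10, 11], [g] = u by
      decide +kernel) u hu
    exact ⟨g, (show ∀ g ∈ [0, 2, 3, 4, 5, 6, 7, 8, 9, 10, 11],
      g < 12 ∧ (g = 0 ∨ [g, 0, g, 0] ∈ numbering.pairs) by decide +kernel) g hg, h⟩
  rw [SetLike.mem_coe, Subgroup.mem_centralizer_singleton_iff, wordVal_one (by
    simp only [eps]; omega)]
  rcases hg.2 with rfl | h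
  · rfl
  · exact (commute_gens (by decide) hg.1 h).symm.eq

/-- The central involution of the large subgroup. -/
def lH : Hsub := ⟨x 0, l_mem⟩

/-- The subgroup it generates. -/
def Zl : Subgroup Hsub := Subgroup.zpowers lH

theorem h_quot : Zl.Normal ∧ (∀ [Zl.Normal],
    ∃ ψ : Cfsg.Spor.Fi23 →* Hsub ⧸ Zl, Function.Surjective ψ ∧
      ∀ g < 10, ∀ h : x (g + 2) ∈ Hsub,
        ψ (PresentedGroup.of (Fi23Pres.letter g)) = (⟨x (g + 2), h⟩ : Hsub)) := by
  set l' : Hsub := lH with hl'
  set Z : Subgroup Hsub := Zl with hZdef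
  have hcen : Z ≤ Subgroup.center Hsub := by
    rw [hZdef, Zl, Subgroup.zpowers_le, Subgroup.mem_center_iff]
    exact fun a => Subtype.ext (l_central a.2).symm.eq
  have hnorm : Z.Normal := ⟨fun a ha b => by
    rw [Subgroup.mem_center_iff.1 (hcen ha) b, mul_inv_cancel_right]
    exact ha⟩
  have hmem : ∀ g < 10, x (g + 2) ∈ Hsub := fun g hg => by
    have := mem_subW_of_over ((show ∀ g < 10, overOK bigWords [g + 2] = true by decide +kernel) g hg)
    rwa [wordVal_one (by simp only [eps]; omega)] at this
  let yH : ℕ → Hsub := fun g => if h : g < 10 then ⟨x (g + 2), hmem g h⟩ else 1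
  have hyH : ∀ g, yH g * yH g = 1 := by
    intro g
    simp only [yH]
    split
    · exact Subtype.ext (x_mul_self _)
    · exact one_mul 1
  let q := QuotientGroup.mk' Z
  let y : ℕ → Hsub ⧸ Z := fun g => q (yH g)
  have hy : ∀ g, y g * y g = 1 := fun g => by simp only [y, ← map_mul, hyH, map_one]
  have hval : ∀ r : List ℕ, (∀ g ∈ r, g < 10) →
      ((wordVal yH r : Hsub) : Spor.Fi24) = wordVal x (r.map (· + 2)) := by
    intro r
    induction r with
    | nil => intro _; rfl
    | cons g r ih =>
      intro h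
      have hg : g < 10 := h g (by simp)
      rw [wordVal, List.map_cons, wordVal, Subgroup.coe_mul, ih fun a ha => h a (by simp [ha]),
        gen, gen, if_neg (by simp only [eps]; omega), if_neg (by simp only [eps]; omega)]
      simp only [yH, dif_pos hg]
  have hrel : ∀ r ∈ Fi23Pres.numbering.pairs ++ Fi23Pres.extra, wordVal y r = 1 := by
    intro r hr
    rw [show y = fun g => q (yH g) from rfl, ← map_wordVal]
    have hlt : ∀ g ∈ r, g < 10 := (show ∀ r ∈ Fi23Pres.numbering.pairs ++ Fi23Pres.extra,
      ∀ g ∈ r, g < 10 by decide +kernel) r hr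
    obtain h | h : r ∈ Fi23Pres.numbering.pairs ∨
        r.map (· + 2) = (List.replicate 10 spWord).flatten ∨
        r.map (· + 2) = (List.replicate 9 e7Word.reverse).flatten :=
      (show ∀ r ∈ Fi23Pres.numbering.pairs ++ Fi23Pres.extra, r ∈ Fi23Pres.numbering.pairs ∨
        r.map (· + 2) = (List.replicate 10 spWord).flatten ∨
        r.map (· + 2) = (List.replicate 9 e7Word.reverse).flatten by decide +kernel) r hr
    · have h1 : wordVal yH r = 1 := Subtype.ext (by
        rw [hval r hlt]
        exact shift_eq_one x_mul_self (R0 := numbering.pairs)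
          (R := Fi23Pres.numbering.pairs.map fun r => r.map (· + 2)) (by decide +kernel)
          (fun r hr => x_rel r (List.mem_append_left _ hr)) _ (List.mem_map_of_mem h))
      rw [h1, map_one]
    · rcases h with h | h
      · have h1 : wordVal yH r = 1 := Subtype.ext (by rw [hval r hlt, h]; exact spider)
        rw [h1, map_one]
      · rw [QuotientGroup.mk'_apply, QuotientGroup.eq_one_iff]
        have h1 : wordVal yH r = l' := Subtype.ext (by
          rw [hval r hlt, h, wordVal_pow, wordVal_reverse x_mul_self, inv_pow]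
          exact l_eq.symm)
        rw [h1]
        exact Subgroup.mem_zpowers l'
  have hk : Fi23Pres.numbering.k ≤ eps := by decide
  let ψ : Cfsg.Spor.Fi23 →* Hsub ⧸ Z := PresentedGroup.toGroup
    (Fi23Pres.numbering.lift_eq_one hk y (Fi23Pres.map_extra y hy) hrel)
  have hψ : ∀ g < 10, y g ∈ ψ.range := fun g hg =>
    ⟨PresentedGroup.of (Fi23Pres.letter g), by
      rw [PresentedGroup.toGroup.of, show Fi23Pres.numbering.num (Fi23Pres.letter g) = g from
        Fi23Pres.numbering.num_letter g hg]⟩
  have hsurj : Function.Surjective ψ := by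
    intro z
    obtain ⟨⟨a, ha⟩, rfl⟩ := QuotientGroup.mk'_surjective Z z
    rw [← MonoidHom.mem_range]
    induction ha using Subgroup.closure_induction with
    | one => exact one_mem _
    | mem a h =>
      obtain ⟨u, hu, rfl⟩ := h
      obtain rfl | ⟨g, hg, rfl⟩ : u = [0] ∨ ∃ g < 10, [g + 2] = u :=
        (show ∀ u ∈ bigWords, u = [0] ∨ ∃ g < 10, [g + 2] = u by decide +kernel) u hu
      · suffices h1 : q ⟨wordVal x [0], Subgroup.subset_closure ⟨[0], hu, rfl⟩⟩ = (1 : Hsub ⧸ Z) by
          show q ⟨wordVal x [0], _⟩ ∈ ψ.range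
          rw [h1]
          exact one_mem _
        · rw [QuotientGroup.mk'_apply, QuotientGroup.eq_one_iff]
          have : (⟨wordVal x [0], Subgroup.subset_closure ⟨[0], hu, rfl⟩⟩ : Hsub) = l' :=
            Subtype.ext (wordVal_one (by decide))
          rw [this]
          exact Subgroup.mem_zpowers l'
      · convert hψ g hg using 1
        show q _ = q (yH g)
        congr 1
        refine Subtype.ext ?_
        simp only [yH, dif_pos hg]
        exact wordVal_one (by simp only [eps]; omega)
    | mul a b ha hb iha ihb =>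
      exact mul_mem (a := q ⟨a, ha⟩) (b := q ⟨b, hb⟩) iha ihb
    | inv a ha iha => exact inv_mem (x := q ⟨a, ha⟩) iha
  refine ⟨hnorm, fun {_} => ⟨ψ, hsurj, fun g hg h => ?_⟩⟩
  rw [PresentedGroup.toGroup.of, show Fi23Pres.numbering.num (Fi23Pres.letter g) = g from
    Fi23Pres.numbering.num_letter g hg]
  show q (yH g) = q _
  congr 1
  exact Subtype.ext (by simp only [yH, dif_pos hg])

theorem h_card : Finite Hsub ∧ Nat.card Hsub ≤ 8178940946586009600 := by
  set l' : Hsub := lH
  set Z : Subgroup Hsub := Zl
  have hnorm : Z.Normal := h_quot.1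
  obtain ⟨ψ, hsurj, -⟩ := @h_quot.2 hnorm
  have h23 := Cfsg.Agent.S1697.result.2
  have : Finite Cfsg.Spor.Fi23 := Nat.finite_of_card_ne_zero (by rw [h23]; decide)
  have hfinQ : Finite (Hsub ⧸ Z) := Finite.of_surjective ψ hsurj
  have hZ : orderOf l' ∣ 2 := orderOf_dvd_of_pow_eq_one (Subtype.ext (by
    rw [pow_two]; exact x_mul_self 0))
  have hZ2 : Nat.card Z ≤ 2 := by
    show Nat.card (Subgroup.zpowers l') ≤ 2
    rw [Nat.card_zpowers]
    exact Nat.le_of_dvd (by decide) hZ
  have hZ0 : Nat.card Z ≠ 0 := by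
    show Nat.card (Subgroup.zpowers l') ≠ 0
    rw [Nat.card_zpowers]
    exact fun h => by rw [h] at hZ; simp at hZ
  have hmul := Subgroup.card_mul_index Z
  rw [Subgroup.index_eq_card] at hmul
  refine ⟨Nat.finite_of_card_ne_zero (hmul ▸ mul_ne_zero hZ0 Nat.card_pos.ne'), ?_⟩
  rw [← hmul]
  calc Nat.card Z * Nat.card (Hsub ⧸ Z) ≤ 2 * Nat.card Cfsg.Spor.Fi23 :=
        Nat.mul_le_mul hZ2 (Nat.card_le_card_of_surjective ψ hsurj)
    _ ≤ _ := by rw [h23]

/-- The base points. -/
def pk : Fin 306936 := ⟨1, by decide⟩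

/-- The set distinguishing the subgroup on `b, …, j`. -/
noncomputable def sixSet : Set (Fin 306936) := pts 306936 o6

theorem smul_eq_image (g : Equiv.Perm (Fin 306936)) (s : Set (Fin 306936)) : g • s = g '' s := rfl

theorem b_fix {g : Equiv.Perm (Fin 306936)} (hg : g ∈ wordsGroup nets 306936 b80Words) :
    g pk = pk ∧ g • sixSet = sixSet :=
  ⟨fixes_of_keep lens_ok range_ok (by decide) (by decide +kernel) (p := pk) o6_pk g hg, by
    rw [smul_eq_image]
    exact keep_invariant lens_ok range_ok (by decide) (by decide +kernel) o6_keep hg⟩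

/-- The words generating the stabiliser of `pk`. -/
def stabWords : List (List ℕ) := b80Words ++ [turnWord]

theorem turn_pk' : Nat.beq (runW nets turnWord (point pk.1)) (point pk.1) = true := by
  rw [show (pk : Fin 306936).1 = 1 from rfl]
  exact turn_pk

theorem turn_lt : ∀ g ∈ turnWord, g < 15 := by decide +kernel

theorem turn_fix : wordVal P turnWord pk = pk :=
  wordVal_point (k := 15) lens_ok range_ok (by decide) turn_lt turn_pk'

theorem turn_image : wordVal P turnWord • sixSet = pts 306936 turnSet := by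
  rw [smul_eq_image]
  exact pts_eq_of_eq lens_ok range_ok (by decide) (by decide +kernel) turn_set

theorem pts_ne {x y : ℕ} (h : Nat.beq (Nat.land x (below 306936)) (Nat.land y (below 306936)) = false) :
    pts 306936 x ≠ pts 306936 y := by
  intro he
  have : Nat.land x (below 306936) = Nat.land y (below 306936) := by
    refine Nat.eq_of_testBit_eq fun i => ?_
    change (x &&& below 306936).testBit i = (y &&& below 306936).testBit i
    rw [Nat.testBit_and, Nat.testBit_and, testBit_below]
    by_cases hi : i < 306936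
    · have := Set.ext_iff.1 he ⟨i, hi⟩
      simp only [mem_pts] at this
      rw [Bool.eq_iff_iff.2 this]
    · simp [hi]
  rw [this, Nat.beq_refl] at h
  simp at h

theorem stab_order : 29713078886400 ≤ Nat.card (wordsGroup nets 306936 stabWords) := by
  have hle : wordsGroup nets 306936 b80Words ≤ wordsGroup nets 306936 stabWords :=
    Subgroup.closure_mono (Set.image_mono fun u hu => List.mem_append_left _ hu)
  have ht : wordVal P turnWord ∈ wordsGroup nets 306936 stabWords :=
    wordVal_mem_wordsGroup (List.mem_append_right _ (List.mem_singleton_self _))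
  have hu : wordVal P [turnLetter] ∈ wordsGroup nets 306936 stabWords :=
    hle (mem_of_subOK (V := [[turnLetter]]) (by decide +kernel) (List.mem_singleton_self _))
  have h2 : (wordVal P [turnLetter] * wordVal P turnWord) • sixSet = pts 306936 turnSet2 := by
    rw [mul_smul, turn_image, smul_eq_image]
    exact pts_eq_of_eq lens_ok range_ok (by decide) (by decide +kernel) turn_set2
  classical
  let s : Finset (Set (Fin 306936)) := {pts 306936 o6, pts 306936 turnSet, pts 306936 turnSet2}
  have hs : s.card = 3 := by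
    rw [Finset.card_insert_of_notMem, Finset.card_pair]
    · exact pts_ne (by decide +kernel)
    · simp only [Finset.mem_insert, Finset.mem_singleton, not_or]
      exact ⟨pts_ne (by decide +kernel), pts_ne (by decide +kernel)⟩
  have h := card_ge_of_action (p := sixSet) hle (fun g hg => (b_fix hg).2) (s := s) (by
    intro i hi
    simp only [s, Finset.mem_insert, Finset.mem_singleton] at hi
    rcases hi with rfl | rfl | rfl
    · exact ⟨1, one_mem _, one_smul _ _⟩
    · exact ⟨_, ht, turn_image⟩
    · exact ⟨_, mul_mem hu ht, h2⟩)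
  rw [hs] at h
  exact le_trans (le_trans (by decide) (Nat.mul_le_mul (le_refl 3) b_order)) h

theorem h_orbit : 275264 ≤ (MulAction.orbit (wordsGroup nets 306936 bigWords) pk).ncard :=
  InOrbit.ncard_le (reach_sub lens_ok range_ok (by decide) (by decide +kernel)
    (fun _ hu => wordVal_mem_wordsGroup hu) _ _ (inOrbit_point _ pk)) big_count

theorem stab_le_big : wordsGroup nets 306936 stabWords ≤ wordsGroup nets 306936 bigWords :=
  wordsGroup_le _ (inv_letters (by decide +kernel)) _
    (stabWords.map fun u => u.map fun g => ((bigWords.map fun v => v.headD 99).idxOf g, false))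
    (by decide +kernel)

theorem fix_stab {g : Equiv.Perm (Fin 306936)} (hg : g ∈ wordsGroup nets 306936 stabWords) :
    g pk = pk := by
  induction hg using Subgroup.closure_induction with
  | one => rfl
  | mem a ha =>
    obtain ⟨u, hu, rfl⟩ := ha
    rcases List.mem_append.1 hu with h | h
    · exact (b_fix (wordVal_mem_wordsGroup h)).1
    · rw [List.mem_singleton] at h
      subst h
      exact turn_fix
  | mul a b _ _ ha hb => rw [Equiv.Perm.mul_apply, hb, ha]
  | inv a _ ha =>
    conv_lhs => rw [← ha]
    simp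

theorem big_map : Hsub.map f = wordsGroup nets 306936 bigWords := map_subW (by decide +kernel)

theorem big_order : 8178940946586009600 ≤ Nat.card (Hsub.map f) := by
  rw [big_map]
  exact (card_ge stab_le_big (fun g hg => fix_stab hg) h_orbit stab_order).trans' (by decide)

theorem h_inj : ∀ a ∈ Hsub, f a = 1 → a = 1 := by
  have := h_card.1
  exact inj_of_card (h_card.2.trans big_order)

theorem h_exact : Nat.card Hsub = 8178940946586009600 := by
  have := h_card.1
  refine le_antisymm h_card.2 (big_order.trans ?_)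
  exact Nat.card_le_card_of_surjective (fun b : Hsub => (⟨f b, ⟨b, b.2, rfl⟩⟩ : Hsub.map f))
    (by rintro ⟨_, b, hb, rfl⟩; exact ⟨⟨b, hb⟩, rfl⟩)

theorem big_exact : Nat.card (wordsGroup nets 306936 bigWords) = 8178940946586009600 := by
  rw [← big_map]
  refine le_antisymm ?_ big_order
  have := h_card.1
  exact (Nat.card_le_card_of_surjective (fun b : Hsub => (⟨f b, ⟨b, b.2, rfl⟩⟩ : Hsub.map f))
    (by rintro ⟨_, b, hb, rfl⟩; exact ⟨⟨b, hb⟩, rfl⟩)).trans h_card.2

/-- An element of the large subgroup keeping `pk` and the distinguished set is in the small one. -/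
theorem mem_Bsub {a : Spor.Fi24} (ha : a ∈ Hsub) (hpk : f a pk = pk)
    (hset : f a • sixSet = sixSet) : a ∈ Bsub := by
  set G := wordsGroup nets 306936 bigWords
  set T : Subgroup (Equiv.Perm (Fin 306936)) := G ⊓ MulAction.stabilizer _ pk with hT
  set T' : Subgroup (Equiv.Perm (Fin 306936)) := T ⊓ MulAction.stabilizer _ sixSet with hT'
  have hBT' : wordsGroup nets 306936 b80Words ≤ T' := fun g hg => by
    have hs : g ∈ wordsGroup nets 306936 stabWords :=
      Subgroup.closure_mono (Set.image_mono fun u hu => List.mem_append_left _ hu) hg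
    exact ⟨⟨stab_le_big hs, (b_fix hg).1⟩, (b_fix hg).2⟩
  have hST : wordsGroup nets 306936 stabWords ≤ T := fun g hg => ⟨stab_le_big hg, fix_stab hg⟩
  have h1 : 275264 * Nat.card T ≤ 8178940946586009600 := by
    rw [← big_exact]
    exact card_ge (K := T) (p := pk) inf_le_left (fun g hg => hg.2) h_orbit le_rfl
  have ht : wordVal P turnWord ∈ T :=
    hST (wordVal_mem_wordsGroup (List.mem_append_right _ (List.mem_singleton_self _)))
  have hu : wordVal P [turnLetter] ∈ T := hST (Subgroup.closure_mono (Set.image_mono fun u hu =>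
    List.mem_append_left _ hu) (mem_of_subOK (V := [[turnLetter]]) (U := b80Words)
      (by decide +kernel) (List.mem_singleton_self _)))
  classical
  have h3 := card_ge_of_action (p := sixSet) (G := T) (K := T') inf_le_left (fun g hg => hg.2)
    (s := {pts 306936 o6, pts 306936 turnSet, pts 306936 turnSet2}) (by
      intro i hi
      simp only [Finset.mem_insert, Finset.mem_singleton] at hi
      rcases hi with rfl | rfl | rfl
      · exact ⟨1, one_mem _, one_smul _ _⟩
      · exact ⟨_, ht, turn_image⟩
      · refine ⟨_, mul_mem hu ht, ?_⟩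
        rw [mul_smul, turn_image, smul_eq_image]
        exact pts_eq_of_eq lens_ok range_ok (by decide) (by decide +kernel) turn_set2)
  rw [Finset.card_insert_of_notMem (by
      simp only [Finset.mem_insert, Finset.mem_singleton, not_or]
      exact ⟨pts_ne (by decide +kernel), pts_ne (by decide +kernel)⟩),
    Finset.card_pair (pts_ne (by decide +kernel))] at h3
  have h4 : Nat.card T' ≤ Nat.card (wordsGroup nets 306936 b80Words) := by
    have := b_order
    omega
  have heq : wordsGroup nets 306936 b80Words = T' :=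
    Subgroup.eq_of_le_of_card_ge hBT' h4
  have hG : f a ∈ G := (le_of_eq big_map) (Subgroup.mem_map_of_mem f ha)
  have hmem : f a ∈ T' := ⟨⟨hG, hpk⟩, hset⟩
  rw [← heq, ← map_subW (by decide +kernel)] at hmem
  obtain ⟨b, hb, hbf⟩ := hmem
  have hbH : b ∈ Hsub := subW_le (by decide +kernel) hb
  have : b⁻¹ * a = 1 := h_inj _ (mul_mem (inv_mem hbH) ha) (by
    rw [map_mul, map_inv, hbf, inv_mul_cancel])
  rw [inv_mul_eq_one] at this
  exact this ▸ hb

end Cfsg.Lib.BigPerm.Fi24
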